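import Cfsg.Agent.Lib.Coherent.TIKernel
import Cfsg.Agent.Lib.Clifford.Dade
import Cfsg.Agent.Lib.Clifford.DadeVirtual

/-!
# The Dade map on the combinations of induced characters, and the TI case
-/

set_option autoImplicit false
set_option linter.unusedSectionVars false

namespace CfsgLib.Coherent

open CfsgLib.Clifford.Coh

universe u v

/-- Coherence only depends on the values of `τ` on the combinations vanishing off `A`. -/
theorem coherent_congr {L : Type u} [Group L] [Fintype L] {G : Type v} [Group G] [Fintype G]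
    {S : Set (L → ℂ)} {A : Set L} {τ τ' : (L → ℂ) → (G → ℂ)}
    (h : ∀ α ∈ Cfsg.zspanOn S A, τ α = τ' α) (hc : Cfsg.IsCoherent S A τ) :
    Cfsg.IsCoherent S A τ' := by
  obtain ⟨hne, τ₁, hτ₁, hag⟩ := hc
  exact ⟨hne, τ₁, hτ₁, fun α hα => (hag α hα).trans (h α hα)⟩

variable {G : Type v} [Group G] [Fintype G] {L : Subgroup G} [Fintype L] {A : Set G}
  {R : G → Subgroup G}

/-- Under the Dade hypothesis for the non-identity elements of a normal subgroup, the Dade map is an
isometry on the combinations of the induced characters vanishing at the identity. -/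
theorem dade_isometry_induced (H : Subgroup L) [H.Normal] [Fintype H]
    (hA : ∀ x : L, (x : G) ∈ A ↔ x ∈ H ∧ x ≠ 1) (hD : Cfsg.DadeHypothesis A L R) :
    Cfsg.IsLinearIsometryOn (Cfsg.zspanOn (Cfsg.inducedIrrAbove H ⊥) {1}ᶜ)
        (Cfsg.dadeIsometry A L R) ∧
      ∀ α ∈ Cfsg.zspanOn (Cfsg.inducedIrrAbove H ⊥) ({1}ᶜ : Set L),
        Cfsg.dadeIsometry A L R α 1 = 0 := by
  classical
  have hsupp : ∀ α ∈ Cfsg.zspanOn (Cfsg.inducedIrrAbove H ⊥) ({1}ᶜ : Set L),
      ∀ x : L, (x : G) ∉ A → α x = 0 := fun α hα x hx => by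
    by_cases h1 : x = 1
    · subst h1; exact hα.2 1 (by simp)
    · exact (zspan_induced H hα.1).2.2 x fun hxH => hx ((hA x).mpr ⟨hxH, h1⟩)
  refine ⟨⟨fun α _ β _ => ?_, fun α _ n => ?_, fun α hα β hβ => ?_, fun α hα => ?_⟩, fun α hα => ?_⟩
  · funext g; simp only [Cfsg.dadeIsometry, Pi.add_apply]; split_ifs <;> simp
  · funext g; simp only [Cfsg.dadeIsometry, Pi.smul_apply]; split_ifs <;> simp
  · exact CfsgLib.Clifford.Dade.classInner_dadeIsometry_dadeIsometry hD (zspan_induced H hα.1).1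
      (hsupp α hα) (zspan_induced H hβ.1).1
  · exact CfsgLib.Clifford.Dade.isGeneralized_dadeIsometry hD (zspan_induced H hα.1).2.1 (hsupp α hα)
  · simp only [Cfsg.dadeIsometry]
    rw [dif_neg]
    rintro ⟨a, ha, x, u, hu, he⟩
    rw [mul_one, mul_inv_cancel] at he
    refine hD.one_not_mem ?_
    have hau : (a : G) ∈ R a := by
      have : (a : G) = u⁻¹ := eq_inv_of_mul_eq_one_left he.symm
      rw [this] at hu ⊢; exact (R _).inv_mem hu
    have h1 : (a : G) ∈ R a ⊓ (L ⊓ Subgroup.centralizer ({(a : G)} : Set G)) :=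
      ⟨hau, a.2, Subgroup.mem_centralizer_singleton_iff.mpr rfl⟩
    rw [hD.inf_eq_bot a ha, Subgroup.mem_bot] at h1
    rwa [h1] at ha

/-- When all the attached subgroups are trivial, the Dade map is induction. -/
theorem dade_eq_indFun (hTI : ∀ g : G, ∀ v ∈ A, g * v * g⁻¹ ∈ A → g ∈ L) (hR : ∀ a ∈ A, R a = ⊥)
    {α : L → ℂ} (hα : Cfsg.IsClassFunction L α) (hαA : ∀ x : L, (x : G) ∉ A → α x = 0) :
    Cfsg.dadeIsometry A L R α = Cfsg.indFun L α := by
  classical
  funext g
  simp only [Cfsg.dadeIsometry]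
  split_ifs with h
  · obtain ⟨ha, x, u, hu, he⟩ := Classical.choose_spec h
    set a := Classical.choose h
    rw [hR _ ha, Subgroup.mem_bot] at hu
    rw [hu, mul_one] at he
    rw [← CfsgLib.Clifford.indFun_apply_of_TI hTI hα (fun y hy => by_contra fun h => hy (hαA y h)) a ha,
      ← he]
    exact (CfsgLib.Char.indFun_isClassFunction L α g x)
  · rw [CfsgLib.Char.indFun_def, Finset.sum_eq_zero, mul_zero]
    intro y _
    by_cases hm : y⁻¹ * g * y ∈ L
    · rw [CfsgLib.Char.extendByZero_of_mem _ hm]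
      refine hαA _ fun hA => h ⟨⟨_, hm⟩, hA, y⁻¹, 1, ?_, by simp⟩
      rw [hR _ hA]; exact Subgroup.one_mem _
    · exact CfsgLib.Char.extendByZero_of_not_mem _ hm

end CfsgLib.Coherent
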