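import Cfsg.Agent.Lib.Coherent.System
import Cfsg.Agent.S1517

/-!
# Coherence systems on the functions induced from a solvable normal subgroup
-/

set_option autoImplicit false
set_option linter.unusedSectionVars false

namespace CfsgLib.Coherent

open CfsgLib.Clifford.Coh
open scoped ComplexConjugate

universe u v

variable {L : Type u} [Group L] [Fintype L] {G : Type v} [Group G] [Fintype G]

theorem conjFun_indFun (K : Subgroup L) (θ : K → ℂ) :
    Cfsg.conjFun (Cfsg.indFun K θ) = Cfsg.indFun K (Cfsg.conjFun θ) := by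
  classical
  funext g
  simp only [Cfsg.conjFun, CfsgLib.Char.indFun_def, map_mul, map_inv₀, map_natCast, map_sum]
  congr 1
  refine Finset.sum_congr rfl fun x _ => ?_
  by_cases h : x⁻¹ * g * x ∈ K
  · rw [CfsgLib.Char.extendByZero_of_mem _ h, CfsgLib.Char.extendByZero_of_mem _ h]; rfl
  · rw [CfsgLib.Char.extendByZero_of_not_mem _ h, CfsgLib.Char.extendByZero_of_not_mem _ h, map_zero]

theorem inducedIrrAbove_conj (K : Subgroup L) (A : Subgroup L) {φ : L → ℂ}
    (h : φ ∈ Cfsg.inducedIrrAbove K A) : Cfsg.conjFun φ ∈ Cfsg.inducedIrrAbove K A := by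
  obtain ⟨θ, hθ, h1, hA, rfl⟩ := h
  refine ⟨Cfsg.conjFun θ, CfsgLib.Char.isIrrCharacter_conj hθ, fun e => h1 ?_,
    fun a ha => congrArg conj (hA a ha), conjFun_indFun K θ⟩
  funext k
  have := congrArg conj (congr_fun e k)
  simpa [Cfsg.conjFun] using this

variable (K : Subgroup L) [K.Normal] {τ : (L → ℂ) → (G → ℂ)} {R : (L → ℂ) → Finset (G → ℂ)}

/-- The extension step: from `S(A)` to `S(B)` through a section `D/B` central in `C/B`. -/
theorem step (hsolv : Group.IsSolvable K)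
    (hS : Cfsg.IsCoherenceSystem (Cfsg.inducedIrrAbove K ⊥) τ R) (A B C D : Subgroup L) [A.Normal]
    [B.Normal] (hAK : A < K) (hBK : B < K) (hBD : B ≤ D) (hDC : D ≤ C) (hCK : C ≤ K)
    (hcent : ∀ x ∈ D, ∀ y ∈ C, x * y * x⁻¹ * y⁻¹ ∈ B)
    (hA : Cfsg.IsCoherent (Cfsg.inducedIrrAbove K A) {1}ᶜ τ)
    (hlt : 4 * C.index ^ 2 * D.relIndex C < (A.relIndex K - 1) ^ 2) :
    Cfsg.IsCoherent (Cfsg.inducedIrrAbove K B) {1}ᶜ τ := by
  classical
  have := Fintype.ofFinite K
  set S := Cfsg.inducedIrrAbove K (⊥ : Subgroup L)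
  choose! d hd0 hd hdc using fun φ (hφ : φ ∈ S) => CfsgLib.Clifford.Coh.exists_deg hS hφ
  choose! n hn0 hn using fun φ (hφ : φ ∈ S) => CfsgLib.Clifford.Coh.exists_norm hS hφ
  obtain ⟨s, hs⟩ := (inducedIrrAbove_finite K A).exists_finset_coe
  obtain ⟨T, hT⟩ := (inducedIrrAbove_finite K B).exists_finset_coe
  have hAS : Cfsg.inducedIrrAbove K A ⊆ S := inducedIrrAbove_mono K bot_le
  have hBS : Cfsg.inducedIrrAbove K B ⊆ S := inducedIrrAbove_mono K bot_le
  have hsA : ∀ x, x ∈ s ↔ x ∈ Cfsg.inducedIrrAbove K A := fun x => by rw [← hs]; rfl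
  have hTB : ∀ x, x ∈ T ↔ x ∈ Cfsg.inducedIrrAbove K B := fun x => by rw [← hT]; rfl
  obtain ⟨lam, hlam, hlam1, hlamd, hlamA⟩ := exists_linear_above K hsolv hAK
  have hψ : Cfsg.indFun K lam ∈ Cfsg.inducedIrrAbove K A := ⟨lam, hlam, hlam1, hlamA, rfl⟩
  have hdψ : d (Cfsg.indFun K lam) = K.index := by
    have h := hd _ (hAS hψ)
    rw [CfsgLib.Char.indFun_apply_one, hlamd, mul_one] at h
    exact_mod_cast h.symm
  have hsum : (∑ φ ∈ s, ((d φ : ℝ) ^ 2 / (n φ : ℝ))) =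
      (K.index : ℝ) * ((A.relIndex K : ℝ) - 1) := by
    apply Complex.ofReal_injective
    have h := sum_sq_div K A s hs
    rw [Finset.sum_congr rfl fun φ hφ => by
      rw [hd φ (hAS ((hsA φ).mp hφ)), hn φ (hAS ((hsA φ).mp hφ))]] at h
    push_cast
    exact h
  obtain ⟨U, -, hTU, -, -, hUc⟩ := system_extend hS d n hd hn s (hs ▸ hAS)
    (fun φ hφ => (hsA _).mpr (inducedIrrAbove_conj K A ((hsA φ).mp hφ))) (hs ▸ hA) T (hT ▸ hBS)
    (fun χ hχ _ => by
      obtain ⟨θ, hθ, hθ1, hθB, rfl⟩ := (hTB χ).mp hχ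
      obtain ⟨m, hm0, hm⟩ := CfsgLib.Char.irr_apply_one_pos hθ
      have hdχ : d (Cfsg.indFun K θ) = K.index * m := by
        have h := hd _ (hBS ((hTB _).mp hχ))
        rw [CfsgLib.Char.indFun_apply_one, hm] at h
        exact_mod_cast h.symm
      refine ⟨_, (hsA _).mpr hψ, by rw [hdψ, hdχ]; exact dvd_mul_right _ _, ?_⟩
      rw [hsum, hdψ, hdχ]
      have hb := degree_bound K B C D hBD hDC hCK hcent hθ hθB hm
      have hkey : 2 * (K.index * m) < A.relIndex K - 1 := by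
        refine lt_of_pow_lt_pow_left₀ 2 (Nat.zero_le _) (lt_of_le_of_lt ?_ hlt)
        rw [← Subgroup.relIndex_mul_index hCK]
        calc (2 * (K.index * m)) ^ 2 = 4 * K.index ^ 2 * m ^ 2 := by ring
          _ ≤ 4 * K.index ^ 2 * (C.relIndex K ^ 2 * D.relIndex C) := Nat.mul_le_mul_left _ hb
          _ = _ := by ring
      have h1 : 1 ≤ A.relIndex K := by omega
      have hkey' : (2 * ((K.index : ℝ) * m)) < (A.relIndex K : ℝ) - 1 := by
        have e : ((A.relIndex K - 1 : ℕ) : ℝ) = (A.relIndex K : ℝ) - 1 := by push_cast [Nat.cast_sub h1]; ring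
        rw [← e]
        exact_mod_cast hkey
      have he : (0 : ℝ) < K.index := Nat.cast_pos.mpr (Nat.pos_of_ne_zero Subgroup.index_ne_zero_of_finite)
      push_cast
      calc 2 * ((K.index : ℝ) * m) * K.index = K.index * (2 * ((K.index : ℝ) * m)) := by ring
        _ < _ := mul_lt_mul_of_pos_left hkey' he)
  obtain ⟨mu, hmu, hmu1, -, hmuB⟩ := exists_linear_above K hsolv hBK
  have hm : Cfsg.indFun K mu ∈ Cfsg.inducedIrrAbove K B := ⟨mu, hmu, hmu1, hmuB, rfl⟩
  refine coherent_subset (hT ▸ Finset.coe_subset.mpr hTU) hUc ?_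
  refine ⟨_, mem_zspanOn_compl.mpr ⟨Submodule.sub_mem _ (mem_zspan_of_mem hm)
    (mem_zspan_of_mem (inducedIrrAbove_conj K B hm)), ?_⟩,
    sub_ne_zero.mpr (hS.conj_ne _ (hBS hm)).symm⟩
  show Cfsg.indFun K mu 1 - Cfsg.conjFun (Cfsg.indFun K mu) 1 = 0
  rw [hd _ (hBS hm), hdc _ (hBS hm), sub_self]

/-- The members of degree `[L : K]`: functions induced from linear characters are coherent. -/
theorem coherent_linear (hsolv : Group.IsSolvable K)
    (hS : Cfsg.IsCoherenceSystem (Cfsg.inducedIrrAbove K ⊥) τ R) (H₁ : Subgroup L) [H₁.Normal]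
    (hH₁ : H₁ < K) (hder : ⁅K, K⁆ ≤ H₁) :
    Cfsg.IsCoherent (Cfsg.inducedIrrAbove K H₁) {1}ᶜ τ := by
  classical
  have := Fintype.ofFinite K
  obtain ⟨lam, hlam, hlam1, -, hlamA⟩ := exists_linear_above K hsolv hH₁
  refine Cfsg.Agent.S1517.result _ τ R (system_restrict hS (inducedIrrAbove_mono K bot_le)
    ⟨_, lam, hlam, hlam1, hlamA, rfl⟩ fun χ h => inducedIrrAbove_conj K H₁ h) ?_
  have hdeg : ∀ χ ∈ Cfsg.inducedIrrAbove K H₁, χ 1 = (K.index : ℂ) := by
    rintro _ ⟨θ, hθ, -, hA, rfl⟩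
    obtain ⟨m, hm0, hm⟩ := CfsgLib.Char.irr_apply_one_pos hθ
    have h := degree_sq_mul_le (⊤ : Subgroup K) hθ hm fun x _ y => hA _ (hder ?_)
    · have : m ^ 2 ≤ 1 := by
        rw [Subgroup.card_top] at h
        exact Nat.le_of_mul_le_mul_right (by rwa [one_mul]) Nat.card_pos
      have hm1 : m = 1 := by nlinarith
      rw [CfsgLib.Char.indFun_apply_one, hm, hm1, Nat.cast_one, mul_one]
    · simpa [commutatorElement_def] using Subgroup.commutator_mem_commutator x.2 y.2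
  intro χ hχ φ hφ
  rw [hdeg χ hχ, hdeg φ hφ]

end CfsgLib.Coherent
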