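import Cfsg.Agent.Lib.Char.Induce
import Cfsg.Agent.Lib.Char.Linear
import Cfsg.Agent.Lib.Clifford.Constituents
import Mathlib.Tactic.Group

/-!
# Degree bounds from central sections, and sums over normal subgroups
-/

set_option autoImplicit false

namespace CfsgLib.Coherent

open scoped ComplexConjugate

universe u

variable {C : Type u} [Group C] [Fintype C]

/-- An irreducible character sums to zero on a normal subgroup not in its kernel. -/
theorem sum_eq_zero_of_not_le_ker (A : Subgroup C) [hA : A.Normal] [Fintype A] {θ : C → ℂ}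
    (hθ : Cfsg.IsIrrCharacter C θ) (h : ∃ a ∈ A, θ a ≠ θ 1) : ∑ a : A, θ a = 0 := by
  classical
  obtain ⟨n, ρ, hρ, rfl⟩ := hθ
  obtain ⟨a, ha, hne⟩ := h
  let f : C → ℂ := fun g => if g ∈ A then 1 else 0
  have hf : Cfsg.IsClassFunction C f := fun g x => by
    have e : x * g * x⁻¹ ∈ A ↔ g ∈ A :=
      ⟨fun hm => by simpa [mul_assoc] using hA.conj_mem _ hm x⁻¹, fun hm => hA.conj_mem g hm x⟩
    simp only [f, e]
  obtain ⟨c, hc⟩ : ∃ c : ℂ, CfsgLib.Char.classOp f ρ = c • LinearMap.id :=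
    ⟨_, CfsgLib.Char.classOp_eq_scalar hf ρ⟩
  have hinv : CfsgLib.Char.classOp f ρ ∘ₗ ρ a = CfsgLib.Char.classOp f ρ := by
    refine LinearMap.ext fun v => ?_
    simp only [LinearMap.comp_apply, CfsgLib.Char.classOp_apply]
    refine Fintype.sum_equiv (Equiv.mulLeft a⁻¹) _ _ fun g => ?_
    simp only [Equiv.coe_mulLeft]
    rw [← Module.End.mul_apply, ← map_mul, mul_inv_rev, inv_inv]
    congr 1
    simp only [f, A.mul_mem_cancel_left (A.inv_mem ha)]
  have hc0 : c = 0 := by
    by_contra hc0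
    rw [hc, LinearMap.smul_comp, LinearMap.id_comp] at hinv
    apply hne
    rw [Representation.character, Representation.character, map_one,
      smul_right_injective _ hc0 hinv]
    rfl
  rw [hc0, zero_smul] at hc
  have ht := congrArg (LinearMap.trace ℂ (Fin n → ℂ)) hc
  simp only [CfsgLib.Char.classOp, map_sum, map_smul, map_zero] at ht
  have h2 : ∑ g : C, f g • ρ.character g⁻¹ = 0 := ht
  rw [← Fintype.sum_equiv (Equiv.inv A) (fun x => ρ.character ((x : C)⁻¹)) (fun x => ρ.character x)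
    fun x => rfl]
  simp only [f, ite_smul, one_smul, zero_smul, ← Finset.sum_filter] at h2
  rw [← h2]
  exact (Finset.sum_subtype _ (fun g => by simp) fun g => ρ.character g⁻¹).symm

/-- If `D` is central modulo the kernel of `θ`, then `|θ|` is constant on `D`, so
`θ(1)² |D| ≤ |C|`. -/
theorem degree_sq_mul_le (D : Subgroup C) {θ : C → ℂ} (hθ : Cfsg.IsIrrCharacter C θ) {n : ℕ}
    (hn : θ 1 = n) (hcent : ∀ d ∈ D, ∀ c : C, θ (d * c * d⁻¹ * c⁻¹) = θ 1) :
    n ^ 2 * Nat.card D ≤ Nat.card C := by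
  classical
  obtain ⟨m, ρ, hρ, rfl⟩ := hθ
  have := CfsgLib.Char.nontrivial_of_isIrreducible ρ
  have hnm : (n : ℂ) = (Module.finrank ℂ (Fin m → ℂ) : ℂ) := hn.symm.trans ρ.char_one
  have key : ∀ d ∈ D, ρ.character d * conj (ρ.character d) = ((n ^ 2 : ℕ) : ℂ) := by
    intro d hd
    let T : Representation.IntertwiningMap ρ ρ := ⟨ρ d, fun g => by
      have hk : ρ (d * g * d⁻¹ * g⁻¹) = 1 :=
        MonoidHom.mem_ker.mp ((CfsgLib.Char.mem_ker_iff_char ρ _).mpr (hcent d hd g))
      rw [← Module.End.mul_eq_comp, ← Module.End.mul_eq_comp, ← map_mul, ← map_mul,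
        show d * g = (d * g * d⁻¹ * g⁻¹) * (g * d) by group, map_mul, hk, one_mul]⟩
    obtain ⟨c, hc⟩ :=
      (Representation.IsIrreducible.algebraMap_intertwiningMap_bijective_of_isAlgClosed
        (ρ := ρ) (k := ℂ)).2 T
    have hc2 : ρ d = c • (LinearMap.id : (Fin m → ℂ) →ₗ[ℂ] (Fin m → ℂ)) := by
      have := congr_arg Representation.IntertwiningMap.toLinearMap hc
      simp only [T] at this
      rw [← this]
      ext v
      simp [Algebra.algebraMap_eq_smul_one]
    -- `ρ d⁻¹` is the inverse scalar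
    have hv : ρ.character d * ρ.character d⁻¹ = ((n ^ 2 : ℕ) : ℂ) := by
      have h1 : ρ d * ρ d⁻¹ = 1 := by rw [← map_mul, mul_inv_cancel, map_one]
      rw [hc2, smul_mul_assoc, ← Module.End.one_eq_id, one_mul] at h1
      have h2 := congrArg (LinearMap.trace ℂ (Fin m → ℂ)) h1
      rw [map_smul, smul_eq_mul, LinearMap.trace_one] at h2
      simp only [Representation.character, hc2, map_smul, LinearMap.trace_id, smul_eq_mul]
      push_cast
      rw [hnm]
      linear_combination (Module.finrank ℂ (Fin m → ℂ) : ℂ) * h2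
    rwa [CfsgLib.Char.char_inv (CfsgLib.Char.isCharacter_of_rep ρ)] at hv
  have hnorm := CfsgLib.Char.irr_classInner_self (G := C) (χ := ρ.character) ⟨m, ρ, hρ, rfl⟩
  rw [CfsgLib.Char.classInner_def, inv_mul_eq_one₀ CfsgLib.Char.natCard_ne_zero] at hnorm
  have hre : (Nat.card C : ℝ) = ∑ g : C, Complex.normSq (ρ.character g) := by
    have h := congrArg Complex.re hnorm
    simpa [Complex.mul_conj] using h
  have hle : ∑ g ∈ Finset.univ.filter (fun g : C => g ∈ D), Complex.normSq (ρ.character g) ≤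
      ∑ g : C, Complex.normSq (ρ.character g) :=
    Finset.sum_le_sum_of_subset_of_nonneg (Finset.subset_univ _) fun g _ _ => Complex.normSq_nonneg _
  rw [← hre, Finset.sum_congr rfl (g := fun _ => ((n ^ 2 : ℕ) : ℝ)) fun g hg => by
      have := key g (Finset.mem_filter.mp hg).2
      rw [Complex.mul_conj] at this
      exact_mod_cast this,
    Finset.sum_const, nsmul_eq_mul, ← Fintype.card_subtype, ← Nat.card_eq_fintype_card] at hle
  have hle' : (Nat.card D * n ^ 2 : ℕ) ≤ Nat.card C := by exact_mod_cast hle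
  rwa [mul_comm] at hle'

/-- The degree of a character is at most the index times the degree of a constituent of its
restriction. -/
theorem exists_constituent_degree_le (D : Subgroup C) [Fintype D] {θ : C → ℂ} (hθ : Cfsg.IsIrrCharacter C θ)
    {n : ℕ} (hn : θ 1 = n) :
    ∃ φ : D → ℂ, Cfsg.IsIrrCharacter D φ ∧ ∃ m : ℕ, φ 1 = m ∧ n ≤ D.index * m ∧
      Cfsg.classInner (fun x : D => θ x) φ ≠ 0 := by
  classical
  obtain ⟨φ, hφ, hne⟩ := CfsgLib.Clifford.exists_irr_constituent_restrict (N := D) hθ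
  obtain ⟨m, -, hm⟩ := CfsgLib.Char.irr_apply_one_pos hφ
  refine ⟨φ, hφ, m, hm, ?_, hne⟩
  have hI := CfsgLib.Char.isCharacter_indFun D (CfsgLib.Char.irr_isCharacter hφ)
  have := Fintype.ofFinite (Cfsg.IrrCharacter C)
  choose k hk using fun χ : Cfsg.IrrCharacter C =>
    CfsgLib.Char.classInner_isCharacter_nat hI (CfsgLib.Char.irr_isCharacter χ.2)
  choose e he0 he using fun χ : Cfsg.IrrCharacter C => CfsgLib.Char.irr_apply_one_pos χ.2
  have h1 := CfsgLib.Char.classFunction_apply_eq_sum (CfsgLib.Char.isCharacter_isClassFunction hI)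
    (1 : C)
  rw [CfsgLib.Char.indFun_apply_one, hm] at h1
  simp only [hk, he] at h1
  have h2 : D.index * m = ∑ χ : Cfsg.IrrCharacter C, k χ * e χ := by exact_mod_cast h1
  have hk0 : k ⟨θ, hθ⟩ ≠ 0 := by
    intro h0
    apply hne
    have h := hk ⟨θ, hθ⟩
    rw [h0, CfsgLib.Char.frobenius_reciprocity _ _ _ (CfsgLib.Char.irr_isClassFunction hθ),
      Nat.cast_zero] at h
    rw [← CfsgLib.Char.classInner_conj_symm, h, map_zero]
  have hen : e ⟨θ, hθ⟩ = n := by exact_mod_cast ((he ⟨θ, hθ⟩).symm.trans hn)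
  rw [h2]
  calc n = 1 * e ⟨θ, hθ⟩ := by rw [one_mul, hen]
    _ ≤ k ⟨θ, hθ⟩ * e ⟨θ, hθ⟩ := Nat.mul_le_mul_right _ (Nat.one_le_iff_ne_zero.mpr hk0)
    _ ≤ _ := Finset.single_le_sum (f := fun χ => k χ * e χ) (fun χ _ => Nat.zero_le _)
      (Finset.mem_univ _)

end CfsgLib.Coherent
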