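import Cfsg.Prelude.Def_OddOrderChar
import Cfsg.Agent.Lib.Clifford.Correspondence
import Cfsg.Agent.Lib.Coherent.DegreeBound

/-!
# Functions induced from the non-principal irreducible characters of a normal subgroup
-/

set_option autoImplicit false
set_option linter.unusedSectionVars false

namespace CfsgLib.Coherent

open scoped ComplexConjugate
open CfsgLib.Clifford

universe u

variable {L : Type u} [Group L] [Fintype L] (K : Subgroup L) [hK : K.Normal] [Fintype K]

theorem inducedIrrAbove_mono {A B : Subgroup L} (h : A ≤ B) :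
    Cfsg.inducedIrrAbove K B ⊆ Cfsg.inducedIrrAbove K A := by
  rintro φ ⟨θ, hθ, h1, hA, rfl⟩
  exact ⟨θ, hθ, h1, fun a ha => hA a (h ha), rfl⟩

theorem inducedIrrAbove_finite (A : Subgroup L) : (Cfsg.inducedIrrAbove K A).Finite := by
  refine Set.Finite.subset ((CfsgLib.Char.finite_setOf_isIrr (G := K)).image (Cfsg.indFun K)) ?_
  rintro φ ⟨θ, hθ, -, -, rfl⟩
  exact ⟨θ, hθ, rfl⟩

theorem inducedIrrAbove_isCharacter {A : Subgroup L} {φ : L → ℂ}
    (h : φ ∈ Cfsg.inducedIrrAbove K A) : Cfsg.IsCharacter L φ := by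
  obtain ⟨θ, hθ, -, -, rfl⟩ := h
  exact CfsgLib.Char.isCharacter_indFun K (CfsgLib.Char.irr_isCharacter hθ)

/-- Induced functions are orthogonal or equal. -/
theorem indFun_orthogonal {θ φ : K → ℂ} (hθ : Cfsg.IsIrrCharacter K θ)
    (hφ : Cfsg.IsIrrCharacter K φ) (h : Cfsg.indFun K θ ≠ Cfsg.indFun K φ) :
    Cfsg.classInner (Cfsg.indFun K θ) (Cfsg.indFun K φ) = 0 := by
  rw [classInner_indFun_indFun hθ hφ]
  have : IsEmpty {x : L // conjFn x φ = θ} := ⟨fun x => h (by rw [← x.2, indFun_conjFn])⟩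
  simp

/-- An induced non-principal character is orthogonal to the principal one. -/
theorem classInner_indFun_one' {θ : K → ℂ} (hθ : Cfsg.IsIrrCharacter K θ) (h1 : θ ≠ fun _ => 1) :
    Cfsg.classInner (fun k : K => Cfsg.indFun K θ k) (fun _ => (1 : ℂ)) = 0 := by
  rw [classInner_indFun_restrict hθ CfsgLib.Char.isIrrCharacter_one]
  have : IsEmpty {x : L // conjFn x θ = fun _ => (1 : ℂ)} := ⟨fun x => h1 (by
    have h := congrArg (conjFn x.1⁻¹) x.2
    rw [conjFn_conjFn, mul_inv_cancel, conjFn_one] at h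
    rw [h]; rfl)⟩
  simp

/-- An induced character is constant on a normal subgroup in the kernel of `θ`. -/
theorem indFun_apply_of_mem {A : Subgroup L} [A.Normal] {θ : K → ℂ}
    (hA : ∀ a : K, (a : L) ∈ A → θ a = θ 1) {a : K} (ha : (a : L) ∈ A) :
    Cfsg.indFun K θ (a : L) = Cfsg.indFun K θ 1 := by
  classical
  rw [CfsgLib.Char.indFun_def, CfsgLib.Char.indFun_def]
  congr 1
  refine Finset.sum_congr rfl fun x _ => ?_
  rw [show x⁻¹ * 1 * x = ((1 : K) : L) by simp, CfsgLib.Char.extendByZero_coe,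
    CfsgLib.Char.extendByZero_of_mem _ (hK.conj_mem' _ a.2 x), hA]
  exact ‹A.Normal›.conj_mem' _ ha x

set_option maxHeartbeats 600000 in
/-- The sum of squared degrees divided by norms, over the functions induced from characters
above `A`. -/
theorem sum_sq_div (A : Subgroup L) [A.Normal] (s : Finset (L → ℂ))
    (hs : ↑s = Cfsg.inducedIrrAbove K A) :
    ∑ φ ∈ s, φ 1 ^ 2 / Cfsg.classInner φ φ = (K.index : ℂ) * ((A.relIndex K : ℂ) - 1) := by
  classical
  have := Fintype.ofFinite (Cfsg.IrrCharacter K)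
  have hmem : ∀ φ, φ ∈ s ↔ φ ∈ Cfsg.inducedIrrAbove K A := fun φ => by rw [← hs]; rfl
  have : (A.subgroupOf K).Normal := ‹A.Normal›.subgroupOf K
  have := Fintype.ofFinite (A.subgroupOf K)
  let r : K → ℂ := fun k => if k ∈ A.subgroupOf K then (A.relIndex K : ℂ) else 0
  have hr : Cfsg.IsClassFunction K r := fun g x => by
    have e : x * g * x⁻¹ ∈ A.subgroupOf K ↔ g ∈ A.subgroupOf K :=
      ⟨fun hm => by simpa [mul_assoc] using
        (inferInstance : (A.subgroupOf K).Normal).conj_mem _ hm x⁻¹,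
        fun hm => (inferInstance : (A.subgroupOf K).Normal).conj_mem g hm x⟩
    simp only [r, e]
  have hcard : (Nat.card K : ℂ) = (A.relIndex K : ℂ) * (Nat.card (A.subgroupOf K) : ℂ) := by
    rw [← Nat.cast_mul]
    exact congrArg Nat.cast (Subgroup.index_mul_card (A.subgroupOf K)).symm
  have hrψ : ∀ ψ : K → ℂ, Cfsg.classInner r ψ =
      (Nat.card (A.subgroupOf K) : ℂ)⁻¹ * ∑ a : A.subgroupOf K, conj (ψ a) := by
    intro ψ
    rw [CfsgLib.Char.classInner_def]
    simp only [r, ite_mul, zero_mul, ← Finset.sum_filter, ← Finset.mul_sum]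
    rw [Finset.sum_subtype (p := fun g => g ∈ A.subgroupOf K) _ (fun g => by simp) fun g => conj (ψ g),
      hcard]
    have h1 : (A.relIndex K : ℂ) ≠ 0 := Nat.cast_ne_zero.mpr (Subgroup.index_ne_zero_of_finite)
    have h2 : (Nat.card (A.subgroupOf K) : ℂ) ≠ 0 := by exact_mod_cast Nat.card_pos.ne'
    field_simp
  have hAcard : (Nat.card (A.subgroupOf K) : ℂ) ≠ 0 := by exact_mod_cast Nat.card_pos.ne'
  have hconst : ∀ ψ : K → ℂ, (∀ a : K, (a : L) ∈ A → ψ a = ψ 1) →
      Cfsg.classInner r ψ = conj (ψ 1) := by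
    intro ψ h
    rw [hrψ, Finset.sum_congr rfl fun (a : A.subgroupOf K) _ => congrArg conj (h (a : K) (Subgroup.mem_subgroupOf.mp a.2)),
      Finset.sum_const, Finset.card_univ, nsmul_eq_mul, ← Nat.card_eq_fintype_card,
      inv_mul_cancel_left₀ hAcard]
  let rone : K → ℂ := fun _ => 1
  have hone : ∀ θ : K → ℂ, Cfsg.IsIrrCharacter K θ → Cfsg.classInner rone θ = if θ = rone then 1 else 0 :=
    fun θ hθ => by
      rw [CfsgLib.Char.irr_classInner CfsgLib.Char.isIrrCharacter_one hθ]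
      exact if_congr ⟨Eq.symm, Eq.symm⟩ rfl rfl
  let g : K → ℂ := r - rone
  have hg : Cfsg.IsClassFunction K g := fun a b => by simp only [g, Pi.sub_apply, hr a b, rone]
  let P : Cfsg.IrrCharacter K → Prop := fun θ =>
    (θ : K → ℂ) ≠ rone ∧ ∀ a : K, (a : L) ∈ A → (θ : K → ℂ) a = (θ : K → ℂ) 1
  have hgθ : ∀ θ : Cfsg.IrrCharacter K, Cfsg.classInner g (θ : K → ℂ) =
      if P θ then (θ : K → ℂ) 1 else 0 := by
    intro θ
    obtain ⟨d, -, hd⟩ := CfsgLib.Char.irr_apply_one_pos θ.2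
    rw [CfsgLib.Char.classInner_sub_left, hone _ θ.2]
    by_cases h1 : (θ : K → ℂ) = rone
    · rw [if_pos h1, if_neg (fun h => h.1 h1), hconst _ fun a _ => by rw [h1]]
      rw [h1]; simp [rone]
    rw [if_neg h1, sub_zero]
    by_cases h2 : ∀ a : K, (a : L) ∈ A → (θ : K → ℂ) a = (θ : K → ℂ) 1
    · rw [if_pos ⟨h1, h2⟩, hconst _ h2, hd, map_natCast]
    · rw [if_neg fun h => h2 h.2, hrψ, ← map_sum, sum_eq_zero_of_not_le_ker _ θ.2
        (by push Not at h2; obtain ⟨a, ha, hne⟩ := h2; exact ⟨a, Subgroup.mem_subgroupOf.mpr ha, hne⟩),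
        map_zero, mul_zero]
  -- the induced function, grouped by its constituents
  have hF : Cfsg.indFun K g = ∑ φ ∈ s, (∑ θ ∈ Finset.univ.filter
      (fun θ : Cfsg.IrrCharacter K => P θ ∧ Cfsg.indFun K (θ : K → ℂ) = φ), (θ : K → ℂ) 1) • φ := by
    have e : g = ∑ θ ∈ Finset.univ.filter P, (θ : K → ℂ) 1 • (θ : K → ℂ) := by
      conv_lhs => rw [CfsgLib.Char.classFunction_eq_sum hg]
      rw [Finset.sum_filter]
      exact Finset.sum_congr rfl fun θ _ => by rw [hgθ θ]; split_ifs <;> simp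
    rw [e, CfsgLib.Char.indFun_sum]
    simp only [CfsgLib.Char.indFun_smul]
    rw [← Finset.sum_fiberwise_of_maps_to (t := s) (g := fun θ : Cfsg.IrrCharacter K =>
      Cfsg.indFun K (θ : K → ℂ))]
    · refine Finset.sum_congr rfl fun φ _ => ?_
      rw [Finset.filter_filter, Finset.sum_smul]
      exact Finset.sum_congr rfl fun θ hθ => by rw [(Finset.mem_filter.mp hθ).2.2]
    · intro θ hθ
      rw [hmem]
      obtain ⟨h1, h2⟩ := (Finset.mem_filter.mp hθ).2
      exact ⟨θ, θ.2, h1, h2, rfl⟩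
  have horth : ∀ φ ∈ s, ∀ ψ ∈ s, φ ≠ ψ → Cfsg.classInner φ ψ = 0 := by
    intro φ hφ ψ hψ hne
    obtain ⟨θ, hθ, -, -, rfl⟩ := (hmem φ).mp hφ
    obtain ⟨θ', hθ', -, -, rfl⟩ := (hmem ψ).mp hψ
    exact indFun_orthogonal K hθ hθ' hne
  have hinner : ∀ φ ∈ s, Cfsg.classInner (Cfsg.indFun K g) φ = φ 1 := by
    intro φ hφ
    obtain ⟨θ, hθ, h1, hA, rfl⟩ := (hmem φ).mp hφ
    obtain ⟨d, hd⟩ := CfsgLib.Char.char_apply_one_eq_nat
      (CfsgLib.Char.isCharacter_indFun K (CfsgLib.Char.irr_isCharacter hθ))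
    rw [CfsgLib.Char.frobenius_reciprocity _ _ _ (CfsgLib.Char.indFun_isClassFunction K θ),
      CfsgLib.Char.classInner_sub_left, hconst _ fun a ha => indFun_apply_of_mem K hA ha,
      ← CfsgLib.Char.classInner_conj_symm (fun h : K => Cfsg.indFun K θ h) rone,
      classInner_indFun_one' K hθ h1, map_zero, sub_zero, Subgroup.coe_one, hd, map_natCast]
  have hval : Cfsg.indFun K g 1 = (K.index : ℂ) * ((A.relIndex K : ℂ) - 1) := by
    rw [CfsgLib.Char.indFun_apply_one]
    simp [g, r, rone]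
  rw [← hval]
  conv_rhs => rw [hF, Finset.sum_apply]
  refine Finset.sum_congr rfl fun φ hφ => ?_
  have h := hinner φ hφ
  rw [hF, CfsgLib.Char.classInner_sum_left, Finset.sum_eq_single φ
    (fun ψ hψ hne => by rw [CfsgLib.Char.classInner_smul_left, horth ψ hψ φ hφ hne, mul_zero])
    (fun h => absurd hφ h), CfsgLib.Char.classInner_smul_left] at h
  rw [Pi.smul_apply, smul_eq_mul, sq]
  have hne : Cfsg.classInner φ φ ≠ 0 := fun h0 => by
    obtain ⟨θ, hθ, -, -, rfl⟩ := (hmem φ).mp hφ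
    have h1 := congr_fun (CfsgLib.Char.classInner_self_eq_zero h0) 1
    rw [CfsgLib.Char.indFun_apply_one, Pi.zero_apply, mul_eq_zero] at h1
    exact h1.elim (by exact_mod_cast Subgroup.index_ne_zero_of_finite)
      (CfsgLib.Char.irr_apply_one_ne_zero hθ)
  rw [div_eq_iff hne]
  linear_combination (-φ 1) * h

/-- A linear character of `K`, non-principal, trivial on `A`. -/
theorem exists_linear_above (hsolv : Group.IsSolvable K) {A : Subgroup L} [A.Normal] (hAK : A < K) :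
    ∃ θ : K → ℂ, Cfsg.IsIrrCharacter K θ ∧ θ ≠ (fun _ => 1) ∧ θ 1 = 1 ∧
      ∀ a : K, (a : L) ∈ A → θ a = θ 1 := by
  have : (A.subgroupOf K).Normal := ‹A.Normal›.subgroupOf K
  have hne : (A.subgroupOf K) ≠ ⊤ := fun h => hAK.not_ge (Subgroup.subgroupOf_eq_top.mp h)
  have : Nontrivial (K ⧸ A.subgroupOf K) := QuotientGroup.nontrivial_iff.mpr hne
  have : Group.IsSolvable (K ⧸ A.subgroupOf K) := inferInstance
  have hc := Group.IsSolvable.commutator_lt_top_of_nontrivial (K ⧸ A.subgroupOf K)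
  obtain ⟨g, hg⟩ : ∃ g, g ∉ commutator (K ⧸ A.subgroupOf K) := by
    by_contra h
    push Not at h
    exact hc.ne ((Subgroup.eq_top_iff' _).mpr h)
  have hgne : (Abelianization.of g : Abelianization (K ⧸ A.subgroupOf K)) ≠ 1 := fun h =>
    hg (Abelianization.ker_of (K ⧸ A.subgroupOf K) ▸ MonoidHom.mem_ker.mpr h)
  have : Finite (Abelianization (K ⧸ A.subgroupOf K)) := Finite.of_surjective _ (Quotient.mk_surjective (s := QuotientGroup.leftRel _))
  obtain ⟨lam, hlam⟩ := CfsgLib.Char.exists_linear_ne_one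
    (fun a b => mul_comm a b) hgne
  let f : K →* ℂˣ := (lam.comp Abelianization.of).comp (QuotientGroup.mk' (A.subgroupOf K))
  refine ⟨fun k => (f k : ℂ), CfsgLib.Char.isIrrCharacter_linear f, fun h => hlam ?_, by simp,
    fun a ha => ?_⟩
  · obtain ⟨k, rfl⟩ := QuotientGroup.mk'_surjective (A.subgroupOf K) g
    exact Units.ext (congr_fun h k)
  · have : QuotientGroup.mk' (A.subgroupOf K) a = 1 :=
      (QuotientGroup.eq_one_iff a).mpr (Subgroup.mem_subgroupOf.mpr ha)
    show ((lam (Abelianization.of (QuotientGroup.mk' (A.subgroupOf K) a)) : ℂˣ) : ℂ) =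
      ((f 1 : ℂˣ) : ℂ)
    rw [this, map_one, map_one, map_one]

end CfsgLib.Coherent
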