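import Cfsg.Agent.Lib.Coherent.Feit
import Mathlib.Data.Finset.Max

/-!
# Growing coherent sets of irreducible characters
-/

set_option autoImplicit false

namespace CfsgLib.Coherent

open CfsgLib.Clifford.Coh

universe u v

variable {N : Type u} [Group N] [Fintype N] {G : Type v} [Group G] [Fintype G]

theorem isometry_mono {E F : Set (N → ℂ)} (h : E ⊆ F) {τ : (N → ℂ) → (G → ℂ)}
    (hτ : Cfsg.IsLinearIsometryOn F τ) : Cfsg.IsLinearIsometryOn E τ :=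
  ⟨fun α hα β hβ => hτ.1 α (h hα) β (h hβ), fun α hα n => hτ.2.1 α (h hα) n,
    fun α hα β hβ => hτ.2.2.1 α (h hα) β (h hβ), fun α hα => hτ.2.2.2 α (h hα)⟩

/-- A subset of a coherent set with two members of positive integral degrees is coherent. -/
theorem coherent_subset {S T : Set (N → ℂ)} (hTS : T ⊆ S) {τ : (N → ℂ) → (G → ℂ)}
    (h : Cfsg.IsCoherent S {1}ᶜ τ) (hne : ∃ α ∈ Cfsg.zspanOn T ({1}ᶜ : Set N), α ≠ 0) :
    Cfsg.IsCoherent T {1}ᶜ τ := by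
  obtain ⟨-, τ₁, hτ₁, hag⟩ := h
  exact ⟨hne, τ₁, isometry_mono (zspan_mono hTS) hτ₁, fun α hα => hag α (zspanOn_mono hTS hα)⟩

/-- Two irreducible characters give a nonzero combination vanishing at `1`. -/
theorem exists_ne_zero_zspanOn {T : Set (N → ℂ)} {a b : N → ℂ} (ha : a ∈ T) (hb : b ∈ T)
    (hab : a ≠ b) (hai : Cfsg.IsIrrCharacter N a) (hbi : Cfsg.IsIrrCharacter N b) :
    ∃ α ∈ Cfsg.zspanOn T ({1}ᶜ : Set N), α ≠ 0 := by
  obtain ⟨p, hp, hp1⟩ := CfsgLib.Char.irr_apply_one_pos hai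
  obtain ⟨q, -, hq1⟩ := CfsgLib.Char.irr_apply_one_pos hbi
  refine ⟨(q : ℤ) • a - (p : ℤ) • b, mem_zspanOn_compl.mpr ⟨Submodule.sub_mem _
    (Submodule.smul_mem _ _ (mem_zspan_of_mem ha)) (Submodule.smul_mem _ _ (mem_zspan_of_mem hb)),
    by simp [hp1, hq1, mul_comm]⟩, fun h => ?_⟩
  have h' := congrArg (fun φ => Cfsg.classInner φ b) h
  simp only [CfsgLib.Char.classInner_sub_left, classInner_zsmul_left,
    CfsgLib.Char.irr_classInner_self hbi, CfsgLib.Char.irr_classInner_ne hai hbi hab,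
    CfsgLib.Char.classInner_zero_left, mul_zero, mul_one, zero_sub, neg_eq_zero] at h'
  have : (p : ℂ) = 0 := by simpa using h'
  exact hp.ne' (by exact_mod_cast this)

/-- Feit's criterion iterated: all of `T` may be added to `S₀`. -/
theorem coherent_extend (S : Set (N → ℂ)) (hirr : ∀ ξ ∈ S, Cfsg.IsIrrCharacter N ξ)
    (d : (N → ℂ) → ℕ) (hd : ∀ ξ ∈ S, ξ 1 = (d ξ : ℂ)) (τ : (N → ℂ) → (G → ℂ))
    (hτ : Cfsg.IsLinearIsometryOn (Cfsg.zspanOn S {1}ᶜ) τ)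
    (hτ1 : ∀ α ∈ Cfsg.zspanOn S {1}ᶜ, τ α 1 = 0) (S₀ : Finset (N → ℂ)) (hS₀ : ↑S₀ ⊆ S)
    (hcoh : Cfsg.IsCoherent (↑S₀ : Set (N → ℂ)) {1}ᶜ τ) (T : Finset (N → ℂ)) (hT : ↑T ⊆ S)
    (h : ∀ χ ∈ T, χ ∉ S₀ → ∃ ψ ∈ S₀, d ψ ∣ d χ ∧ 2 * d ψ * d χ < ∑ ξ ∈ S₀, d ξ ^ 2) :
    ∃ U : Finset (N → ℂ), ↑U = (↑S₀ : Set (N → ℂ)) ∪ ↑T ∧
      Cfsg.IsCoherent (↑U : Set (N → ℂ)) {1}ᶜ τ := by
  classical
  induction T using Finset.induction_on with
  | empty => exact ⟨S₀, by simp, hcoh⟩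
  | @insert χ T hχT ih =>
    have hTS : ↑T ⊆ S := fun x hx => hT (by simp [Finset.mem_coe.mp hx])
    obtain ⟨U, hU, hUc⟩ := ih hTS fun x hx => h x (Finset.mem_insert_of_mem hx)
    have hUS : ↑U ⊆ S := hU ▸ Set.union_subset hS₀ hTS
    have hχS : χ ∈ S := hT (by simp)
    refine ⟨insert χ U, ?_, ?_⟩
    · rw [Finset.coe_insert, Finset.coe_insert, hU, Set.union_insert]
    by_cases hχU : χ ∈ U
    · rwa [Finset.insert_eq_of_mem hχU]
    have hsub : S₀ ⊆ U := fun x hx => by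
      rw [← Finset.mem_coe, hU]; exact Or.inl hx
    obtain ⟨ψ, hψ, hdvd, hlt⟩ := h χ (Finset.mem_insert_self χ T) fun hx => hχU (hsub hx)
    have hIS : ↑(insert χ U) ⊆ S := by
      rw [Finset.coe_insert]; exact Set.insert_subset hχS hUS
    refine feit_criterion U χ (fun x hx => hirr x (hUS hx)) (hirr χ hχS) hχU d
      (fun x hx => hd x (hIS (Finset.mem_coe.mpr hx))) τ (isometry_mono (zspanOn_mono hIS) hτ)
      (fun α hα => hτ1 α (zspanOn_mono hIS hα)) hUc ψ (hsub hψ) hdvd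
      (hlt.trans_le (Finset.sum_le_sum_of_subset hsub))

/-- Ordering by degree: each character is compared with those of smaller degree. -/
theorem coherent_by_degree (S : Finset (N → ℂ)) (hirr : ∀ ξ ∈ S, Cfsg.IsIrrCharacter N ξ)
    (d : (N → ℂ) → ℕ) (hd : ∀ ξ ∈ S, ξ 1 = (d ξ : ℂ)) (τ : (N → ℂ) → (G → ℂ))
    (hτ : Cfsg.IsLinearIsometryOn (Cfsg.zspanOn (↑S : Set (N → ℂ)) {1}ᶜ) τ)
    (hτ1 : ∀ α ∈ Cfsg.zspanOn (↑S : Set (N → ℂ)) {1}ᶜ, τ α 1 = 0) (m : ℕ)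
    (hbase : Cfsg.IsCoherent (↑(S.filter fun ξ => d ξ ≤ m) : Set (N → ℂ)) {1}ᶜ τ)
    (h : ∀ χ ∈ S, m < d χ → ∃ ψ ∈ S, d ψ < d χ ∧ d ψ ∣ d χ ∧
      2 * d ψ * d χ < ∑ ξ ∈ S.filter (fun ξ => d ξ < d χ), d ξ ^ 2) :
    Cfsg.IsCoherent (↑S : Set (N → ℂ)) {1}ᶜ τ := by
  classical
  suffices hk : ∀ k, m ≤ k →
      Cfsg.IsCoherent (↑(S.filter fun ξ => d ξ ≤ k) : Set (N → ℂ)) {1}ᶜ τ by
    have := hk (max m (S.sup d)) (le_max_left _ _)
    rwa [Finset.filter_true_of_mem fun x hx =>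
      (Finset.le_sup (f := d) hx).trans (le_max_right _ _)] at this
  intro k hk
  induction k, hk using Nat.le_induction with
  | base => exact hbase
  | succ k hk ih =>
    obtain ⟨U, hU, hUc⟩ := coherent_extend (↑S : Set (N → ℂ)) hirr d hd τ hτ hτ1
      (S.filter fun ξ => d ξ ≤ k) (Finset.coe_subset.mpr (Finset.filter_subset _ _)) ih
      (S.filter fun ξ => d ξ ≤ k + 1) (Finset.coe_subset.mpr (Finset.filter_subset _ _))
      (fun χ hχ hn => by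
        simp only [Finset.mem_filter, not_and, not_le] at hχ hn
        have hk1 : d χ = k + 1 := by have := hn hχ.1; omega
        obtain ⟨ψ, hψ, hψd, hdvd, hlt⟩ := h χ hχ.1 (by omega)
        refine ⟨ψ, Finset.mem_filter.mpr ⟨hψ, by omega⟩, hdvd, hlt.trans_le (le_of_eq ?_)⟩
        exact Finset.sum_congr (Finset.filter_congr fun x _ => by omega) fun _ _ => rfl)
    have e : (↑(S.filter fun ξ => d ξ ≤ k + 1) : Set (N → ℂ)) = ↑U := by
      rw [hU, Set.union_eq_right.mpr]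
      intro x hx
      simp only [Finset.coe_filter, Set.mem_ofPred_eq] at hx ⊢
      exact ⟨hx.1, by omega⟩
    rw [e]; exact hUc

end CfsgLib.Coherent
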