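import Cfsg.Agent.Lib.Coherent.AboveBasics
import Cfsg.Agent.Lib.Coherent.Grow
import Cfsg.Agent.Lib.Coherent.SystemInduced
import Cfsg.Agent.Lib.Char.Integral

/-!
# The characters not constant on a central subgroup of a normal `p`-subgroup
-/

set_option autoImplicit false
set_option linter.unusedSectionVars false

namespace CfsgLib.Coherent

open CfsgLib.Clifford.Coh

universe u v

variable {L : Type u} [Group L] [Fintype L] {G : Type v} [Group G] [Fintype G]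

/-- With `K` a normal `p`-subgroup, `p` odd and prime to `[L : K]`, `Z` central in `K`: if the
functions induced from characters of `K` not constant on `Z` are irreducible and not real, they are
coherent for every isometry. -/
theorem coherent_central_diff (K : Subgroup L) [K.Normal] {p : ℕ} [hp : Fact p.Prime] (hp2 : p ≠ 2)
    (hKp : IsPGroup p K) (hcop : p.Coprime K.index) (Z : Subgroup L) [Z.Normal] (hZ1 : Z ≠ ⊥)
    (hZK : Z ≤ K) (hZc : ∀ z ∈ Z, ∀ k ∈ K, z * k = k * z)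
    (hirr : ∀ χ ∈ Cfsg.inducedIrrAbove K ⊥ \ Cfsg.inducedIrrAbove K Z, Cfsg.IsIrrCharacter L χ)
    (hreal : ∀ χ ∈ Cfsg.inducedIrrAbove K ⊥ \ Cfsg.inducedIrrAbove K Z, Cfsg.conjFun χ ≠ χ)
    (τ : (L → ℂ) → (G → ℂ))
    (hτ : Cfsg.IsLinearIsometryOn
      (Cfsg.zspanOn (Cfsg.inducedIrrAbove K ⊥ \ Cfsg.inducedIrrAbove K Z) {1}ᶜ) τ)
    (hτ1 : ∀ α ∈ Cfsg.zspanOn (Cfsg.inducedIrrAbove K ⊥ \ Cfsg.inducedIrrAbove K Z) {1}ᶜ,
      τ α 1 = 0) :
    Cfsg.IsCoherent (Cfsg.inducedIrrAbove K ⊥ \ Cfsg.inducedIrrAbove K Z) {1}ᶜ τ := by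
  classical
  have := Fintype.ofFinite K
  set W := Cfsg.inducedIrrAbove K ⊥ \ Cfsg.inducedIrrAbove K Z with hW
  obtain ⟨T, hT⟩ := ((inducedIrrAbove_finite K ⊥).subset Set.sdiff_subset :
    W.Finite).exists_finset_coe
  have hTW : ∀ x, x ∈ T ↔ x ∈ W := fun x => by rw [← hT]; rfl
  choose! d hd0 hd using fun χ (h : χ ∈ W) => CfsgLib.Char.irr_apply_one_pos (hirr χ h)
  obtain ⟨c, hc⟩ : ∃ c, Z.relIndex K = p ^ c := by
    obtain ⟨k, hk⟩ := IsPGroup.iff_card.mp hKp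
    obtain ⟨c, -, hc⟩ := (Nat.dvd_prime_pow hp.out).mp (hk ▸ (Z.subgroupOf K).index_dvd_card)
    exact ⟨c, hc⟩
  have hdeg : ∀ χ ∈ W, ∃ a, d χ = K.index * p ^ a ∧ 2 * a ≤ c := by
    rintro χ hχ
    obtain ⟨θ, hθ, -, -, rfl⟩ := hχ.1
    obtain ⟨m, hm0, hm⟩ := CfsgLib.Char.irr_apply_one_pos hθ
    have hdvd : m ∣ Nat.card K := by
      obtain ⟨n, ρ, hρ, hρθ⟩ := hθ
      have h := CfsgLib.Char.degree_dvd_card ρ
      rwa [show Module.finrank ℂ (Fin n → ℂ) = m from by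
        have := ρ.char_one; rw [hρθ, hm] at this; exact_mod_cast this.symm] at h
    obtain ⟨k, hk⟩ := IsPGroup.iff_card.mp hKp
    obtain ⟨a, -, ha⟩ := (Nat.dvd_prime_pow hp.out).mp (hk ▸ hdvd)
    refine ⟨a, ?_, (Nat.pow_le_pow_iff_right hp.out.one_lt).mp ?_⟩
    · have h := hd _ hχ
      rw [degree_eq K hm] at h
      rw [← ha]; exact_mod_cast h.symm
    · have h := degree_bound K ⊥ K Z bot_le hZK le_rfl (fun x hx y hy => Subgroup.mem_bot.mpr (by
        rw [hZc x hx y hy, mul_inv_cancel_right, mul_inv_cancel])) hθ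
        (fun b hb => by rw [show b = 1 from Subtype.ext (Subgroup.mem_bot.mp hb)]) hm
      rw [Subgroup.relIndex_self, one_pow, one_mul, hc, ha, ← pow_mul, mul_comm] at h
      exact h
  -- the total
  have hsum : (∑ χ ∈ T, d χ ^ 2) + K.index * Z.relIndex K = K.index * Nat.card K := by
    obtain ⟨s, hs⟩ := (inducedIrrAbove_finite K (⊥ : Subgroup L)).exists_finset_coe
    obtain ⟨sZ, hsZ⟩ := (inducedIrrAbove_finite K Z).exists_finset_coe
    have hms : ∀ x, x ∈ s ↔ x ∈ Cfsg.inducedIrrAbove K ⊥ := fun x => by rw [← hs]; rfl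
    have hmZ : ∀ x, x ∈ sZ ↔ x ∈ Cfsg.inducedIrrAbove K Z := fun x => by rw [← hsZ]; rfl
    have e1 : sZ ⊆ s := fun x hx => (hms x).mpr (inducedIrrAbove_mono K bot_le ((hmZ x).mp hx))
    have e2 : s \ sZ = T := by
      ext x; simp [hms, hmZ, hTW, hW]
    have h1 := sum_sq_div K ⊥ s hs
    rw [← Finset.sum_sdiff e1, e2, sum_sq_div K Z sZ hsZ, Finset.sum_congr rfl
      (g := fun χ => ((d χ ^ 2 : ℕ) : ℂ)) fun χ hχ => by
        rw [CfsgLib.Char.irr_classInner_self (hirr χ ((hTW χ).mp hχ)), div_one,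
          hd χ ((hTW χ).mp hχ), Nat.cast_pow],
      Subgroup.relIndex_bot_left] at h1
    refine Nat.cast_injective (R := ℂ) ?_
    push_cast
    push_cast at h1
    linear_combination h1
  have hWne : T.Nonempty := by
    by_contra h
    rw [Finset.not_nonempty_iff_eq_empty.mp h, Finset.sum_empty, zero_add] at hsum
    have h2 := Nat.eq_of_mul_eq_mul_left (Nat.pos_of_ne_zero Subgroup.index_ne_zero_of_finite) hsum
    have h3 : Z.relIndex K * Nat.card Z = Nat.card K := by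
      rw [← Nat.card_congr (Subgroup.subgroupOfEquivOfLe hZK).toEquiv]
      exact Subgroup.index_mul_card (Z.subgroupOf K)
    have hKpos : 0 < Z.relIndex K := Nat.pos_of_ne_zero Subgroup.index_ne_zero_of_finite
    exact hZ1 ((Subgroup.card_eq_one).mp ((Nat.mul_eq_left hKpos.ne').mp (h3.trans h2.symm)))
  obtain ⟨ψ, hψT, hψmin⟩ := T.exists_min_image d hWne
  have hψ := (hTW ψ).mp hψT
  have hcl : ∀ χ ∈ W, Cfsg.conjFun χ ∈ W ∧ d (Cfsg.conjFun χ) = d χ := by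
    intro χ hχ
    have hmem : Cfsg.conjFun χ ∈ W := by
      obtain ⟨θ, hθ, h1, -, rfl⟩ := hχ.1
      have hconj : ∀ A : Subgroup L, Cfsg.indFun K θ ∈ Cfsg.inducedIrrAbove K A →
          Cfsg.conjFun (Cfsg.indFun K θ) ∈ Cfsg.inducedIrrAbove K A :=
        fun A h => inducedIrrAbove_conj K A h
      refine ⟨hconj ⊥ hχ.1, fun h => hχ.2 ?_⟩
      have := inducedIrrAbove_conj K Z h
      rwa [conjFun_conjFun] at this
    refine ⟨hmem, ?_⟩
    have h := hd _ hmem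
    rw [show Cfsg.conjFun χ 1 = (starRingEnd ℂ) (χ 1) from rfl, hd χ hχ, map_natCast] at h
    exact_mod_cast h.symm
  rw [← hT] at hτ hτ1 ⊢
  refine coherent_by_degree T (fun χ h => hirr χ ((hTW χ).mp h)) d
    (fun χ h => hd χ ((hTW χ).mp h)) τ hτ hτ1 (d ψ) ?_ fun χ hχ hlt => ⟨ψ, hψT, hlt, ?_, ?_⟩
  · refine coherent_of_same_degree _ (fun χ h => hirr χ ((hTW χ).mp (Finset.mem_filter.mp h).1))
      (fun χ hχ η hη => ?_) ?_ τ (isometry_mono (zspanOn_mono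
        (Finset.coe_subset.mpr (Finset.filter_subset _ _))) hτ)
      fun α hα => hτ1 α (zspanOn_mono (Finset.coe_subset.mpr (Finset.filter_subset _ _)) hα)
    · simp only [Finset.mem_filter] at hχ hη
      rw [hd χ ((hTW χ).mp hχ.1), hd η ((hTW η).mp hη.1), le_antisymm hχ.2 (hψmin χ hχ.1),
        le_antisymm hη.2 (hψmin η hη.1)]
    · obtain ⟨hmem, hdc⟩ := hcl ψ hψ
      exact Finset.one_lt_card.mpr ⟨ψ, Finset.mem_filter.mpr ⟨hψT, le_rfl⟩, Cfsg.conjFun ψ,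
        Finset.mem_filter.mpr ⟨(hTW _).mpr hmem, hdc.le⟩, (hreal ψ hψ).symm⟩
  all_goals
    obtain ⟨a, ha, hac⟩ := hdeg χ ((hTW χ).mp hχ)
    obtain ⟨b, hb, -⟩ := hdeg ψ hψ
    have he : 0 < K.index := Nat.pos_of_ne_zero Subgroup.index_ne_zero_of_finite
    have hba : b < a := by
      rw [ha, hb] at hlt
      exact (Nat.pow_lt_pow_iff_right hp.out.one_lt).mp (Nat.lt_of_mul_lt_mul_left hlt)
  · rw [ha, hb]
    exact Nat.mul_dvd_mul_left _ (Nat.pow_dvd_pow _ hba.le)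
  · set Rlow := ∑ ξ ∈ T.filter (fun ξ => d ξ < d χ), d ξ ^ 2 with hR
    have hdvdhigh : K.index * p ^ (2 * a) ∣ ∑ ξ ∈ T.filter (fun ξ => ¬ d ξ < d χ), d ξ ^ 2 := by
      refine Finset.dvd_sum fun ξ hξ => ?_
      simp only [Finset.mem_filter] at hξ
      obtain ⟨g, hg, -⟩ := hdeg ξ ((hTW ξ).mp hξ.1)
      have hag : a ≤ g := by
        rw [hg, ha, not_lt] at hξ
        exact (Nat.pow_le_pow_iff_right hp.out.one_lt).mp (Nat.le_of_mul_le_mul_left hξ.2 he)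
      rw [hg, mul_pow, ← pow_mul, mul_comm g 2]
      exact Nat.mul_dvd_mul (dvd_pow_self _ two_ne_zero) (Nat.pow_dvd_pow _ (by omega))
    have hdvdZ : K.index * p ^ (2 * a) ∣ K.index * Z.relIndex K :=
      Nat.mul_dvd_mul_left _ (hc ▸ Nat.pow_dvd_pow _ hac)
    have hdvdK : K.index * p ^ (2 * a) ∣ K.index * Nat.card K := by
      refine hdvdZ.trans (Nat.mul_dvd_mul_left _ ?_)
      exact (Z.subgroupOf K).index_dvd_card
    have hdvdlow : K.index * p ^ (2 * a) ∣ Rlow := by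
      rw [← hsum, ← Finset.sum_filter_add_sum_filter_not T (fun ξ => d ξ < d χ), add_assoc] at hdvdK
      exact (Nat.dvd_add_left (Nat.dvd_add hdvdhigh hdvdZ)).mp hdvdK
    have hdvde : K.index ^ 2 ∣ Rlow := by
      refine Finset.dvd_sum fun ξ hξ => ?_
      obtain ⟨g, hg, -⟩ := hdeg ξ ((hTW ξ).mp (Finset.mem_filter.mp hξ).1)
      rw [hg, mul_pow]
      exact dvd_mul_right _ _
    have hdvd : K.index ^ 2 * p ^ (2 * a) ∣ Rlow :=
      Nat.Coprime.mul_dvd_of_dvd_of_dvd ((hcop.symm.pow_left 2).pow_right _) hdvde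
        ((dvd_mul_left _ _).trans hdvdlow)
    have hpos : 0 < Rlow := Finset.sum_pos' (fun _ _ => Nat.zero_le _)
      ⟨ψ, Finset.mem_filter.mpr ⟨hψT, hlt⟩, pow_pos (hd0 ψ hψ) 2⟩
    refine lt_of_lt_of_le ?_ (Nat.le_of_dvd hpos hdvd)
    have hp3 : 3 ≤ p := by have := hp.out.two_le; omega
    have h1 : 3 * p ^ (b + a) ≤ p ^ (2 * a) :=
      calc 3 * p ^ (b + a) ≤ p * p ^ (b + a) := Nat.mul_le_mul_right _ hp3
        _ = p ^ (b + a + 1) := by ring
        _ ≤ _ := Nat.pow_le_pow_right hp.out.pos (by omega)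
    have h2 : 0 < p ^ (b + a) := pow_pos hp.out.pos _
    calc 2 * d ψ * d χ = K.index ^ 2 * (2 * p ^ (b + a)) := by rw [ha, hb]; ring
      _ < K.index ^ 2 * p ^ (2 * a) := Nat.mul_lt_mul_of_pos_left (by omega) (pow_pos he 2)

end CfsgLib.Coherent
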