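import Cfsg.Agent.Lib.Coherent.SylowJoin
import Mathlib.GroupTheory.FixedPointFree

/-!
# Coherence for nilpotent TI subgroups containing the centralisers of their elements
-/

set_option autoImplicit false
set_option linter.unusedSectionVars false

namespace CfsgLib.Coherent

open scoped commutatorElement

universe u v

section Kernel

variable {L : Type u} [Group L] [Fintype L] {H : Subgroup L} [hH : H.Normal]
variable (hC : ∀ h ∈ H, h ≠ 1 → Subgroup.centralizer ({h} : Set L) ≤ H)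
include hC

/-- An even index forces an abelian kernel. -/
theorem derived_eq_bot_of_even (he : Even H.index) : ⁅H, H⁆ = ⊥ := by
  have hodd : Odd (Nat.card H) := by
    by_contra h
    rw [Nat.not_odd_iff_even, even_iff_two_dvd] at h
    have h1 : 2 ∣ Nat.card H - 1 := (even_iff_two_dvd.mp he).trans (index_dvd_card_sub_one hC le_rfl)
    have : 0 < Nat.card H := Nat.card_pos
    omega
  obtain ⟨x, hx⟩ := exists_prime_orderOf_dvd_card' (G := L) 2
    ((even_iff_two_dvd.mp he).trans H.index_dvd_card)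
  have hxH : x ∉ H := fun h => by
    have h1 : 2 ∣ Nat.card H := hx ▸ Subgroup.orderOf_dvd_natCard H h
    exact Nat.not_even_iff_odd.mpr hodd (even_iff_two_dvd.mpr h1)
  have hx2 : x * x = 1 := by rw [← sq, ← hx, pow_orderOf_eq_one]
  have hfpf : MonoidHom.FixedPointFree (MulAut.conjNormal (H := H) x) := fun g hg => by
    by_contra hg1
    have h2 := congrArg Subtype.val hg
    rw [MulAut.conjNormal_apply] at h2
    exact hxH (hC g g.2 (fun h => hg1 (Subtype.ext h))
      (Subgroup.mem_centralizer_singleton_iff.mpr (mul_inv_eq_iff_eq_mul.mp h2)))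
  have hinv : Function.Involutive (MulAut.conjNormal (H := H) x) := fun g => by
    rw [← MulAut.mul_apply, ← map_mul, hx2, map_one]; rfl
  exact Subgroup.commutator_self_eq_bot_iff.mpr ⟨⟨fun a b => hfpf.commute_all_of_involutive hinv a b⟩⟩

/-- A kernel of order `e + 1` is elementary abelian. -/
theorem elementary_of_card_eq (hH1 : H ≠ ⊥) (h : Nat.card H = H.index + 1) :
    ⁅H, H⁆ = ⊥ ∧ ∃ p, p.Prime ∧ ∀ a ∈ H, a ^ p = 1 := by
  classical
  obtain ⟨p, hp, hpd⟩ := Nat.exists_prime_and_dvd (fun e => hH1 (Subgroup.card_eq_one.mp e))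
  have := Fact.mk hp
  obtain ⟨a, ha⟩ := exists_prime_orderOf_dvd_card' (G := H) p hpd
  have ha1 : (a : L) ≠ 1 := fun e => hp.ne_one (by
    rw [← ha, show a = 1 from Subtype.ext e, orderOf_one])
  -- one class
  have htrans : ∀ b : L, b ∈ H → b ≠ 1 → ∃ x : L, x * a * x⁻¹ = b := by
    intro b hb hb1
    have := Fintype.ofFinite H
    have := Fintype.ofFinite (L ⧸ H)
    let f : L ⧸ H → {c : H // c ≠ 1} := fun q => ⟨⟨q.out * a * q.out⁻¹, hH.conj_mem _ a.2 _⟩,
      fun e => ha1 (conj_eq_one_iff.mp (congrArg Subtype.val e))⟩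
    have hinj : Function.Injective f := by
      intro q q' e
      have e1 : q.out * a * q.out⁻¹ = q'.out * a * q'.out⁻¹ :=
        congrArg (fun c : {c : H // c ≠ 1} => ((c.1 : H) : L)) e
      rw [← QuotientGroup.out_eq' q, ← QuotientGroup.out_eq' q', QuotientGroup.eq]
      refine hC a a.2 ha1 (Subgroup.mem_centralizer_singleton_iff.mpr ?_)
      calc q.out⁻¹ * q'.out * a = q.out⁻¹ * (q'.out * a * q'.out⁻¹) * q'.out := by group
        _ = q.out⁻¹ * (q.out * a * q.out⁻¹) * q'.out := by rw [e1]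
        _ = a * (q.out⁻¹ * q'.out) := by group
    have hcard : Nat.card {c : H // c ≠ 1} = Nat.card (L ⧸ H) := by
      rw [Nat.card_eq_fintype_card, Fintype.card_subtype_compl, Fintype.card_subtype_eq,
        ← Nat.card_eq_fintype_card, h, Nat.add_sub_cancel]
      rfl
    obtain ⟨q, hq⟩ := (Nat.bijective_iff_injective_and_card f).mpr ⟨hinj, hcard.symm⟩ |>.2
      ⟨⟨b, hb⟩, fun e => hb1 (congrArg Subtype.val e)⟩
    exact ⟨q.out, congrArg (fun c : {c : H // c ≠ 1} => ((c.1 : H) : L)) hq⟩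
  have hexp : ∀ b ∈ H, b ^ p = 1 := by
    intro b hb
    rcases eq_or_ne b 1 with rfl | hb1
    · exact one_pow p
    obtain ⟨x, rfl⟩ := htrans b hb hb1
    rw [conj_pow, ← SubmonoidClass.coe_pow, ← ha, pow_orderOf_eq_one]
    simp
  refine ⟨?_, p, hp, hexp⟩
  -- a central element, hence all are central
  have hHp : IsPGroup p H := fun b => ⟨1, Subtype.ext (by simpa using hexp b b.2)⟩
  have : Nontrivial H := (Subgroup.nontrivial_iff_ne_bot H).mpr hH1
  obtain ⟨z, hz1⟩ := Subgroup.ne_bot_iff_exists_ne_one.mp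
    ((Subgroup.nontrivial_iff_ne_bot _).mp hHp.center_nontrivial)
  have hzH : ∀ y ∈ H, y * ((z : H) : L) = ((z : H) : L) * y := fun y hy =>
    congrArg Subtype.val (Subgroup.mem_center_iff.mp z.2 ⟨y, hy⟩)
  rw [Subgroup.commutator_eq_bot_iff_le_centralizer]
  intro b hb
  rw [Subgroup.mem_centralizer_iff]
  intro y hy
  rcases eq_or_ne b 1 with rfl | hb1
  · simp
  obtain ⟨x, hx⟩ := htrans b hb hb1
  obtain ⟨w, hw⟩ := htrans ((z : H) : L) (z : H).2 (fun e => hz1 (Subtype.ext (Subtype.ext e)))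
  set g := x * w⁻¹
  have hb' : b = g * ((z : H) : L) * g⁻¹ := by rw [← hx, ← hw]; simp [g, mul_assoc]
  have h2 := hzH (g⁻¹ * y * g) (by simpa [mul_assoc] using hH.conj_mem y hy g⁻¹)
  rw [hb']
  calc y * (g * ((z : H) : L) * g⁻¹) = g * ((g⁻¹ * y * g) * ((z : H) : L)) * g⁻¹ := by group
    _ = g * (((z : H) : L) * (g⁻¹ * y * g)) * g⁻¹ := by rw [h2]
    _ = _ := by group

/-- In that case there is a single character not trivial on the kernel. -/
theorem card_of_card_eq [Fintype H] (hH1 : H ≠ ⊥) (h : Nat.card H = H.index + 1) :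
    Nat.card {χ : L → ℂ // χ ∈ Cfsg.inducedIrrAbove H ⊥} = 1 := by
  obtain ⟨hab, -⟩ := elementary_of_card_eq hC hH1 h
  obtain ⟨s, hs⟩ := (inducedIrrAbove_finite H (⊥ : Subgroup L)).exists_finset_coe
  have hsum := frobenius_sum_sq hC s hs (fun _ => H.index) fun χ hχ =>
    degree_of_above_derived (show χ ∈ Cfsg.inducedIrrAbove H ⁅H, H⁆ by rw [hab, ← hs]; exact hχ)
  rw [Finset.sum_const, smul_eq_mul, Subgroup.relIndex_bot_left, h, Nat.add_sub_cancel, sq] at hsum
  have he : 0 < H.index := Nat.pos_of_ne_zero Subgroup.index_ne_zero_of_finite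
  rw [show Nat.card {χ : L → ℂ // χ ∈ Cfsg.inducedIrrAbove H ⊥} =
    Nat.card (Cfsg.inducedIrrAbove H (⊥ : Subgroup L)) from rfl, Nat.card_coe_set_eq, ← hs,
    Set.ncard_coe_finset]
  exact (Nat.mul_eq_right (Nat.mul_ne_zero he.ne' he.ne')).mp hsum

end Kernel

section TI

variable {G : Type v} [Group G] [Fintype G]

/-- A `p`-group whose index in its normaliser is prime to `p` is a Sylow subgroup. -/
theorem exists_sylow_eq {K L : Subgroup G} (hL : Subgroup.normalizer (K : Set G) = L) {p : ℕ}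
    [hp : Fact p.Prime] (hK : IsPGroup p K) (hcop : ¬ p ∣ (K.subgroupOf L).index) :
    ∃ P : Sylow p G, (P : Subgroup G) = K := by
  obtain ⟨Q, hKQ⟩ := hK.exists_le_sylow
  refine ⟨Q, le_antisymm (fun x hx => ?_) hKQ⟩
  by_contra hxK
  have : Group.IsNilpotent (Q : Subgroup G) := Q.2.isNilpotent
  have hlt : K.subgroupOf (Q : Subgroup G) < ⊤ := lt_of_le_of_ne le_top fun e =>
    hxK (Subgroup.subgroupOf_eq_top.mp e hx)
  obtain ⟨y, hyn, hyK⟩ := SetLike.exists_of_lt (Group.normalizerCondition_of_isNilpotent _ hlt)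
  have hyL : (y : G) ∈ L := by
    rw [← hL]
    refine Subgroup.mem_normalizer_iff.mpr fun k => ⟨fun hk => ?_, fun hk => ?_⟩
    · exact (Subgroup.mem_normalizer_iff.mp hyn ⟨k, hKQ hk⟩).mp hk
    · have hkQ : k ∈ (Q : Subgroup G) := by
        have := mul_mem (mul_mem (inv_mem y.2) (hKQ hk)) y.2
        simpa [mul_assoc] using this
      exact (Subgroup.mem_normalizer_iff.mp hyn ⟨k, hkQ⟩).mpr hk
  have hKL : K ≤ L := hL ▸ Subgroup.le_normalizer
  have : (K.subgroupOf L).Normal := by subst hL; exact Subgroup.normal_in_normalizer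
  obtain ⟨j, hj⟩ := Q.2 y
  have h1 : (⟨(y : G), hyL⟩ : L) ^ p ^ j = 1 := Subtype.ext (congrArg Subtype.val hj :)
  have h2 : orderOf (QuotientGroup.mk' (K.subgroupOf L) ⟨(y : G), hyL⟩) ∣ p ^ j :=
    orderOf_dvd_of_pow_eq_one (by rw [← map_pow, h1, map_one])
  obtain ⟨i, -, hi⟩ := (Nat.dvd_prime_pow hp.out).mp h2
  rcases Nat.eq_zero_or_pos i with rfl | hi0
  · rw [pow_zero, orderOf_eq_one_iff] at hi
    exact hyK (Subgroup.mem_subgroupOf.mp
      ((QuotientGroup.eq_one_iff (N := K.subgroupOf L) _).mp hi) :)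
  · refine hcop ((dvd_pow_self p hi0.ne').trans ?_)
    rw [← hi]
    exact orderOf_dvd_natCard _

/-- **Feit–Sibley**: the characters not trivial on a nilpotent TI subgroup containing the
centralisers of its elements are coherent, unless it has order `e + 1` or is a small `2`-group. -/
theorem coherent_ti_kernel (K L : Subgroup G) [Fintype L]
    (hL : Subgroup.normalizer (K : Set G) = L) (hTI : Cfsg.IsTISubset (K : Set G))
    [(K.subgroupOf L).Normal] [Fintype (K.subgroupOf L)] (hK1 : K.subgroupOf L ≠ ⊥)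
    (hK2 : K.subgroupOf L ≠ ⊤)
    (hC : ∀ h ∈ K.subgroupOf L, h ≠ 1 → Subgroup.centralizer ({h} : Set L) ≤ K.subgroupOf L)
    (hne : Nat.card (K.subgroupOf L) ≠ (K.subgroupOf L).index + 1)
    (h2 : ∀ m, Nat.card (K.subgroupOf L) = 2 ^ m → ⁅K.subgroupOf L, K.subgroupOf L⁆ ≠ ⊥ →
      4 * (K.subgroupOf L).index ^ 2 + 1 <
        ⁅K.subgroupOf L, K.subgroupOf L⁆.relIndex (K.subgroupOf L)) :
    Cfsg.IsCoherent (Cfsg.inducedIrrAbove (K.subgroupOf L) ⊥) {1}ᶜ
      (fun α : L → ℂ => Cfsg.indFun L α) := by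
  classical
  set H := K.subgroupOf L with hH
  obtain ⟨hτ, hτ1⟩ := indFun_isometry K fun g hg h hh hgh => hTI g (hL ▸ hg) h hh hgh
  by_cases hbig : ∀ p m : ℕ, p.Prime → Nat.card H = p ^ m → ⁅H, H⁆ ≠ ⊥ →
      4 * H.index ^ 2 + 1 < ⁅H, H⁆.relIndex H
  · exact feit_coherence hC hK1 hK2 hne _ hτ hτ1 hbig
  push Not at hbig
  obtain ⟨p, m, hp, hm, hna, hsmall⟩ := hbig
  have := Fact.mk hp
  have hp2 : p ≠ 2 := fun h => by
    subst h; exact absurd (h2 m hm hna) (not_lt.mpr hsmall)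
  have hKL : K ≤ L := hL ▸ Subgroup.le_normalizer
  have hKp : IsPGroup p K := IsPGroup.of_card (n := m) (by
    rw [← hm, hH, Nat.card_congr (Subgroup.subgroupOfEquivOfLe hKL).toEquiv])
  have hm0 : m ≠ 0 := fun h => hK1 (Subgroup.card_eq_one.mp (by rw [hm, h, pow_zero]))
  have hcop : ¬ p ∣ H.index := by
    intro hdvd
    have hd := index_dvd_card_sub_one hC (A := H) le_rfl
    rw [hm] at hd
    have h1 : p ∣ p ^ m - (p ^ m - 1) := Nat.dvd_sub (dvd_pow_self p hm0) (hdvd.trans hd)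
    rw [Nat.sub_sub_self (Nat.one_le_pow _ _ hp.pos)] at h1
    exact hp.ne_one (Nat.dvd_one.mp h1)
  obtain ⟨P, hP⟩ := exists_sylow_eq hL hKp hcop
  subst hP
  have hoe : Odd H.index := Nat.not_even_iff_odd.mp fun he => hna (derived_eq_bot_of_even hC he)
  have hodd : Odd (Nat.card L) := by
    rw [← H.index_mul_card, hm]
    exact hoe.mul ((hp.odd_of_ne_two hp2).pow)
  exact coherent_sylow_join P hTI L hL hp2 hodd hK2 hC hna

end TI

end CfsgLib.Coherent
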