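import Cfsg.Agent.Lib.Coherent.FrobeniusKernel
import Cfsg.Agent.Lib.Coherent.Grow

/-!
# Feit's coherence theorem for Frobenius groups
-/

set_option autoImplicit false
set_option linter.unusedSectionVars false

namespace CfsgLib.Coherent

open CfsgLib.Clifford.Coh
open scoped commutatorElement

universe u v

variable {L : Type u} [Group L] [Fintype L] {G : Type v} [Group G] [Fintype G]
variable {H : Subgroup L} [hH : H.Normal] [Fintype H]
variable (hC : ∀ h ∈ H, h ≠ 1 → Subgroup.centralizer ({h} : Set L) ≤ H)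
include hC

/-- The squares of the degrees above a normal subgroup. -/
theorem frobenius_sum_sq {A : Subgroup L} [A.Normal] (s : Finset (L → ℂ))
    (hs : ↑s = Cfsg.inducedIrrAbove H A) (d : (L → ℂ) → ℕ) (hd : ∀ χ ∈ s, χ 1 = (d χ : ℂ)) :
    ∑ χ ∈ s, d χ ^ 2 = H.index * (A.relIndex H - 1) := by
  have h := sum_sq_div H A s hs
  rw [Finset.sum_congr rfl (g := fun χ => ((d χ ^ 2 : ℕ) : ℂ)) fun χ hχ => by
    rw [CfsgLib.Char.irr_classInner_self (frobenius_irr hC (show χ ∈ Cfsg.inducedIrrAbove H A by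
      rw [← hs]; exact hχ)), div_one, hd χ hχ, Nat.cast_pow]] at h
  refine Nat.cast_injective (R := ℂ) ?_
  have h1 : 1 ≤ A.relIndex H := Nat.pos_of_ne_zero Subgroup.index_ne_zero_of_finite
  rw [Nat.cast_sum, h, Nat.cast_mul, Nat.cast_sub h1, Nat.cast_one]

omit hC in
/-- Characters above the derived group are induced from linear ones. -/
theorem degree_of_above_derived {χ : L → ℂ} (h : χ ∈ Cfsg.inducedIrrAbove H ⁅H, H⁆) :
    χ 1 = (H.index : ℂ) := by
  obtain ⟨θ, hθ, -, hA, rfl⟩ := h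
  obtain ⟨n, hn0, hn⟩ := CfsgLib.Char.irr_apply_one_pos hθ
  have h1 := degree_bound H ⁅H, H⁆ H H (Subgroup.commutator_le_self H) le_rfl le_rfl
    (fun x hx y hy => by
      simpa [commutatorElement_def] using Subgroup.commutator_mem_commutator hx hy) hθ hA hn
  rw [Subgroup.relIndex_self, one_pow, one_mul] at h1
  have : n = 1 := by nlinarith
  rw [CfsgLib.Char.indFun_apply_one, hn, this, Nat.cast_one, mul_one]

/-- The characters above the derived group are coherent. -/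
theorem coherent_derived (hnil : Group.IsNilpotent H) (hH1 : H ≠ ⊥)
    (hne : ⁅H, H⁆.relIndex H ≠ H.index + 1) (τ : (L → ℂ) → (G → ℂ))
    (hτ : Cfsg.IsLinearIsometryOn (Cfsg.zspanOn (Cfsg.inducedIrrAbove H ⊥) {1}ᶜ) τ)
    (hτ1 : ∀ α ∈ Cfsg.zspanOn (Cfsg.inducedIrrAbove H ⊥) {1}ᶜ, τ α 1 = 0) :
    Cfsg.IsCoherent (Cfsg.inducedIrrAbove H ⁅H, H⁆) {1}ᶜ τ := by
  obtain ⟨s, hs⟩ := (inducedIrrAbove_finite H ⁅H, H⁆).exists_finset_coe
  have hmem : ∀ χ ∈ s, χ ∈ Cfsg.inducedIrrAbove H ⁅H, H⁆ := fun χ h => by rw [← hs]; exact h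
  have hsum := frobenius_sum_sq hC s hs (fun _ => H.index) fun χ h => degree_of_above_derived (hmem χ h)
  rw [Finset.sum_const, smul_eq_mul] at hsum
  have he : 0 < H.index := Nat.pos_of_ne_zero Subgroup.index_ne_zero_of_finite
  have hc : s.card * H.index = ⁅H, H⁆.relIndex H - 1 :=
    Nat.eq_of_mul_eq_mul_left he (by rw [← hsum]; ring)
  have hlt := index_lt_section hC (derived_lt hnil hH1) le_rfl
  have hcard : 2 ≤ s.card := by
    by_contra h
    push Not at h
    interval_cases s.card <;> omega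
  rw [← hs]
  have hsub : (↑s : Set (L → ℂ)) ⊆ Cfsg.inducedIrrAbove H ⊥ := hs ▸ inducedIrrAbove_mono H bot_le
  exact coherent_of_same_degree s (fun χ h => frobenius_irr hC (hmem χ h))
    (fun χ h η h' => by rw [degree_of_above_derived (hmem χ h), degree_of_above_derived (hmem η h')])
    hcard τ (isometry_mono (zspanOn_mono hsub) hτ) fun α hα => hτ1 α (zspanOn_mono hsub hα)

/-- One step down from the derived group. -/
theorem coherent_step {B B' : Subgroup L} [B.Normal] [B'.Normal] (hBB' : B ≤ B')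
    (hB' : B' ≤ ⁅H, H⁆) (τ : (L → ℂ) → (G → ℂ))
    (hτ : Cfsg.IsLinearIsometryOn (Cfsg.zspanOn (Cfsg.inducedIrrAbove H ⊥) {1}ᶜ) τ)
    (hτ1 : ∀ α ∈ Cfsg.zspanOn (Cfsg.inducedIrrAbove H ⊥) {1}ᶜ, τ α 1 = 0)
    (hnil : Group.IsNilpotent H) (hH1 : H ≠ ⊥)
    (hcoh : Cfsg.IsCoherent (Cfsg.inducedIrrAbove H B') {1}ᶜ τ)
    (hsmall : ∀ θ : H → ℂ, Cfsg.IsIrrCharacter H θ → (∀ b : H, (b : L) ∈ B → θ b = θ 1) →
      ∀ n : ℕ, θ 1 = n → 2 * H.index * n < B'.relIndex H - 1) :
    Cfsg.IsCoherent (Cfsg.inducedIrrAbove H B) {1}ᶜ τ := by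
  classical
  obtain ⟨s₀, hs₀⟩ := (inducedIrrAbove_finite H B').exists_finset_coe
  obtain ⟨s, hs⟩ := (inducedIrrAbove_finite H B).exists_finset_coe
  choose! d hd0 hd using fun χ (h : χ ∈ Cfsg.inducedIrrAbove H (⊥ : Subgroup L)) =>
    CfsgLib.Char.irr_apply_one_pos (frobenius_irr hC h)
  have hsub₀ : (↑s₀ : Set (L → ℂ)) ⊆ Cfsg.inducedIrrAbove H ⊥ := hs₀ ▸ inducedIrrAbove_mono H bot_le
  have hsub : (↑s : Set (L → ℂ)) ⊆ Cfsg.inducedIrrAbove H ⊥ := hs ▸ inducedIrrAbove_mono H bot_le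
  obtain ⟨ψθ, hψθ, hψ1, hψlin, hψA⟩ := exists_linear_above H (A := ⁅H, H⁆) (by
    have := hnil; infer_instance) (derived_lt hnil hH1)
  have hψ' : Cfsg.indFun H ψθ ∈ Cfsg.inducedIrrAbove H ⁅H, H⁆ := ⟨ψθ, hψθ, hψ1, hψA, rfl⟩
  have hψ : Cfsg.indFun H ψθ ∈ s₀ := by
    rw [← Finset.mem_coe, hs₀]; exact inducedIrrAbove_mono H hB' hψ'
  have hψd : d (Cfsg.indFun H ψθ) = H.index := by
    have h := hd _ (hsub₀ hψ)
    rw [degree_of_above_derived hψ'] at h
    exact_mod_cast h.symm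
  obtain ⟨U, hU, hUc⟩ := coherent_extend (Cfsg.inducedIrrAbove H (⊥ : Subgroup L))
    (fun χ h => frobenius_irr hC h) d hd τ hτ hτ1 s₀ hsub₀ (by rw [hs₀]; exact hcoh) s hsub
    (fun χ hχ _ => by
      obtain ⟨θ, hθ, -, hA, rfl⟩ : χ ∈ Cfsg.inducedIrrAbove H B := by rw [← hs]; exact hχ
      obtain ⟨n, -, hn⟩ := CfsgLib.Char.irr_apply_one_pos hθ
      have hχd : d (Cfsg.indFun H θ) = H.index * n := by
        have h := hd _ (hsub hχ)
        rw [degree_eq H hn] at h
        exact_mod_cast h.symm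
      refine ⟨_, hψ, by rw [hψd, hχd]; exact dvd_mul_right _ _, ?_⟩
      rw [frobenius_sum_sq hC s₀ hs₀ d fun x hx => hd x (hsub₀ hx), hψd, hχd,
        show 2 * H.index * (H.index * n) = H.index * (2 * H.index * n) by ring]
      exact Nat.mul_lt_mul_of_pos_left (hsmall θ hθ hA n hn)
        (Nat.pos_of_ne_zero Subgroup.index_ne_zero_of_finite))
  rwa [hU, hs₀, hs, Set.union_eq_right.mpr (inducedIrrAbove_mono H hBB')] at hUc

/-- **Feit's coherence theorem**: if the derived quotient of the kernel is large whenever the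
kernel has prime power order, the characters not trivial on the kernel are coherent. -/
theorem feit_coherence (hH1 : H ≠ ⊥) (hH2 : H ≠ ⊤) (hne : Nat.card H ≠ H.index + 1)
    (τ : (L → ℂ) → (G → ℂ))
    (hτ : Cfsg.IsLinearIsometryOn (Cfsg.zspanOn (Cfsg.inducedIrrAbove H ⊥) {1}ᶜ) τ)
    (hτ1 : ∀ α ∈ Cfsg.zspanOn (Cfsg.inducedIrrAbove H ⊥) {1}ᶜ, τ α 1 = 0)
    (hbig : ∀ p m : ℕ, p.Prime → Nat.card H = p ^ m → ⁅H, H⁆ ≠ ⊥ →
      4 * H.index ^ 2 + 1 < ⁅H, H⁆.relIndex H) :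
    Cfsg.IsCoherent (Cfsg.inducedIrrAbove H ⊥) {1}ᶜ τ := by
  classical
  have hnil := frobenius_kernel_nilpotent hC hH2
  have he2 : 2 ≤ H.index := by
    have h0 : H.index ≠ 0 := Subgroup.index_ne_zero_of_finite
    have h1 : H.index ≠ 1 := fun h => hH2 (Subgroup.index_eq_one.mp h)
    omega
  -- either the derived quotient is large, or there are two primes
  have hcases : ⁅H, H⁆ = ⊥ ∨ 4 * H.index ^ 2 + 1 < ⁅H, H⁆.relIndex H ∨
      ∃ p q, p.Prime ∧ q.Prime ∧ p ≠ q ∧ p ∣ Nat.card H ∧ q ∣ Nat.card H := by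
    by_cases h : ⁅H, H⁆ = ⊥
    · exact Or.inl h
    obtain ⟨p, hp, hpd⟩ := Nat.exists_prime_and_dvd (fun e => hH1 (Subgroup.card_eq_one.mp e))
    by_cases h2 : ∃ q, q.Prime ∧ q ∣ Nat.card H ∧ q ≠ p
    · obtain ⟨q, hq, hqd, hqp⟩ := h2
      exact Or.inr (Or.inr ⟨p, q, hp, hq, hqp.symm, hpd, hqd⟩)
    · push Not at h2
      exact Or.inr (Or.inl (hbig p _ hp (Nat.eq_prime_pow_of_unique_prime_dvd Nat.card_pos.ne'
        fun {q} hq hqd => h2 q hq hqd) h))
  rcases eq_or_ne ⁅H, H⁆ ⊥ with habel | hna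
  · rw [← habel]
    refine coherent_derived hC hnil hH1 ?_ τ hτ hτ1
    rwa [habel, Subgroup.relIndex_bot_left]
  replace hcases := hcases.resolve_left hna
  have hsq : H.index + 1 < (H.index + 1) * (2 * H.index + 1) := by nlinarith
  have hne' : ⁅H, H⁆.relIndex H ≠ H.index + 1 := by
    rcases hcases with h | ⟨p, q, hp, hq, hpq, hpd, hqd⟩
    · nlinarith
    · have := Fact.mk hp; have := Fact.mk hq
      have := section_large hC hnil hpq hpd hqd le_rfl
      omega
  have hbase := coherent_derived hC hnil hH1 hne' τ hτ hτ1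
  have : ((⊥ : Subgroup L).subgroupOf H).Normal := inferInstance
  obtain ⟨N, hN⟩ := lowerCentralSeries_le_of_nilpotent (M := (⊥ : Subgroup L)) (H := H)
    (by have := hnil; infer_instance)
  suffices h : ∀ k, ∀ B : Subgroup L, B.Normal → B ≤ ⁅H, H⁆ → B.relIndex ⁅H, H⁆ = k →
      Cfsg.IsCoherent (Cfsg.inducedIrrAbove H B) {1}ᶜ τ from h _ ⊥ inferInstance bot_le rfl
  intro k
  induction k using Nat.strong_induction_on with
  | _ k ih =>
    intro B hBn hBH hk
    rcases eq_or_lt_of_le hBH with rfl | hlt'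
    · exact hbase
    obtain ⟨B', ⟨hB'n, hBB', hB'H⟩, hmin⟩ := Set.Finite.exists_minimal
      (s := {N : Subgroup L | N.Normal ∧ B < N ∧ N ≤ ⁅H, H⁆}) (Set.toFinite _)
      ⟨⁅H, H⁆, inferInstance, hlt', le_rfl⟩
    have hlt : B'.relIndex ⁅H, H⁆ < k := by
      rw [← hk, ← Subgroup.relIndex_mul_relIndex B B' ⁅H, H⁆ hBB'.le hB'H]
      have h1 : 1 < B.relIndex B' := by
        have h0 : B.relIndex B' ≠ 0 := Subgroup.index_ne_zero_of_finite
        have h2 : B.relIndex B' ≠ 1 := fun h => hBB'.not_ge (Subgroup.relIndex_eq_one.mp h)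
        omega
      exact lt_mul_left (Nat.pos_of_ne_zero Subgroup.index_ne_zero_of_finite) h1
    have hHH : ⁅H, H⁆ ≤ H := Subgroup.commutator_le_self H
    have hmin' : ∀ X : Subgroup L, X.Normal → B ≤ X → X ≤ B' → X = B ∨ X = B' := fun X hX h1 h2 => by
      rcases eq_or_lt_of_le h1 with e | e
      · exact Or.inl e.symm
      · exact Or.inr (le_antisymm h2 (hmin ⟨hX, e, h2.trans hB'H⟩ h2))
    have hcent := central_of_minimal (H := H) (B := B) (B' := B') hN bot_le hBB'.le (hB'H.trans hHH)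
      hmin'
    refine coherent_step hC hBB'.le hB'H τ hτ hτ1 hnil hH1 (ih _ hlt B' hB'n hB'H rfl)
      fun θ hθ hA n hn => ?_
    have hm0 : 1 ≤ B'.relIndex H := Nat.pos_of_ne_zero Subgroup.index_ne_zero_of_finite
    by_cases hm : 4 * H.index ^ 2 + 1 < B'.relIndex H
    · have hn2 := degree_bound H B H B' hBB'.le (hB'H.trans hHH) le_rfl hcent hθ hA hn
      rw [Subgroup.relIndex_self, one_pow, one_mul] at hn2
      have h1 := arith_step (a := 1) le_rfl hm
      rw [one_mul, one_pow, mul_one] at h1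
      refine (Nat.pow_lt_pow_iff_left two_ne_zero).mp (lt_of_le_of_lt ?_ h1)
      rw [mul_pow, mul_pow, show 2 ^ 2 = 4 from rfl]
      exact Nat.mul_le_mul_left _ hn2
    · have hmul : ⁅H, H⁆.relIndex H * B'.relIndex ⁅H, H⁆ = B'.relIndex H := by
        rw [mul_comm, Subgroup.relIndex_mul_relIndex B' _ H hB'H hHH]
      have hpos : 1 ≤ B'.relIndex ⁅H, H⁆ := Nat.pos_of_ne_zero Subgroup.index_ne_zero_of_finite
      rcases hcases with h | ⟨p, q, hp, hq, hpq, hpd, hqd⟩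
      · exact absurd (lt_of_lt_of_le h (hmul ▸ Nat.le_mul_of_pos_right _ hpos)) hm
      have := Fact.mk hp; have := Fact.mk hq
      have hlarge := section_large hC hnil hpq hpd hqd (le_refl ⁅H, H⁆)
      -- the minimal step reaches the derived group
      obtain rfl : B' = ⁅H, H⁆ := by
        by_contra hne
        have h1 := index_lt_section hC (lt_of_le_of_ne hB'H hne) hHH
        have h2 := Nat.mul_le_mul hlarge h1
        rw [hmul] at h2
        nlinarith
      obtain ⟨D, hDn, hHD, hDH, hDc⟩ := exists_central_above hnil hpq hpd hqd hBB' hmin' hcent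
      have hn2 := degree_bound H B H D (hBB'.le.trans hHD.le) hDH le_rfl hDc hθ hA hn
      rw [Subgroup.relIndex_self, one_pow, one_mul] at hn2
      have h1 := index_lt_section hC hHD hDH
      have h3 : (H.index + 1) * D.relIndex H ≤ ⁅H, H⁆.relIndex H := by
        rw [← Subgroup.relIndex_mul_relIndex ⁅H, H⁆ D H hHD.le hDH]
        exact Nat.mul_le_mul_right _ h1
      refine (Nat.pow_lt_pow_iff_left two_ne_zero).mp ?_
      obtain ⟨m, hm'⟩ : ∃ m, ⁅H, H⁆.relIndex H = m + 1 := ⟨_, (Nat.sub_add_cancel hm0).symm⟩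
      rw [hm'] at h3 hlarge ⊢
      rw [Nat.add_sub_cancel, mul_pow, mul_pow]
      refine lt_of_mul_lt_mul_left (a := H.index + 1) ?_ (Nat.zero_le _)
      calc (H.index + 1) * (2 ^ 2 * H.index ^ 2 * n ^ 2)
          ≤ (H.index + 1) * (2 ^ 2 * H.index ^ 2 * D.relIndex H) := by gcongr
        _ = 4 * H.index ^ 2 * ((H.index + 1) * D.relIndex H) := by ring
        _ ≤ 4 * H.index ^ 2 * (m + 1) := Nat.mul_le_mul_left _ h3
        _ < (H.index + 1) * m ^ 2 := by nlinarith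

end CfsgLib.Coherent
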