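import Cfsg.Agent.Lib.Complement.FpfNilpotent
import Mathlib.GroupTheory.GroupAction.Quotient
import Mathlib.GroupTheory.GroupAction.ConjAct
import Mathlib.GroupTheory.Nilpotent
import Mathlib.GroupTheory.SpecificGroups.Cyclic
import Mathlib.GroupTheory.Abelianization.Defs
import Mathlib.Tactic.Group

/-!
# Frobenius quotients: the congruence modulo the index of the kernel, and nilpotent quotients
-/

set_option autoImplicit false

namespace CfsgLib.Coherent

open scoped commutatorElement

universe u

variable {L : Type u} [Group L]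

/-- The kernel's index divides the number of non-identity elements of an invariant section. -/
theorem index_dvd_relIndex_sub_one [Finite L] {K H₁ N : Subgroup L} [hH : H₁.Normal] [hN : N.Normal]
    (hHN : H₁ ≤ N) (hNK : N ≤ K) (hder : ⁅K, K⁆ ≤ H₁)
    (hfrob : ∀ k ∈ K, k ∉ H₁ → ∀ x : L, x * k * x⁻¹ * k⁻¹ ∈ H₁ → x ∈ K) :
    K.index ∣ H₁.relIndex N - 1 := by
  classical
  set f := QuotientGroup.mk' H₁
  let Nb := N.map f
  have hNb : ∀ x : L, ∀ q ∈ Nb, f x * q * (f x)⁻¹ ∈ Nb := fun x q hq =>
    (hN.map f (QuotientGroup.mk'_surjective H₁)).conj_mem q hq (f x)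
  let X := {q : L ⧸ H₁ // q ∈ Nb ∧ q ≠ 1}
  let : MulAction L X :=
    { smul := fun x q => ⟨f x * q.1 * (f x)⁻¹, hNb x q.1 q.2.1, fun h => q.2.2 (conj_eq_one_iff.mp h)⟩
      one_smul := fun q => Subtype.ext (show f 1 * q.1 * (f 1)⁻¹ = q.1 by
        rw [map_one, one_mul, inv_one, mul_one])
      mul_smul := fun x y q => Subtype.ext (show f (x * y) * q.1 * (f (x * y))⁻¹ =
          f x * (f y * q.1 * (f y)⁻¹) * (f x)⁻¹ by
        rw [map_mul, mul_inv_rev]; simp only [mul_assoc]) }
  have hstab : ∀ q : X, MulAction.stabilizer L q = K := by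
    intro q
    obtain ⟨k, hk, hkq⟩ := q.2.1
    have hk1 : k ∉ H₁ := fun h => q.2.2 (hkq ▸ (QuotientGroup.eq_one_iff k).mpr h)
    ext x
    have e : x ∈ MulAction.stabilizer L q ↔ x * k * x⁻¹ * k⁻¹ ∈ H₁ := by
      rw [MulAction.mem_stabilizer_iff, Subtype.ext_iff]
      show f x * q.1 * (f x)⁻¹ = q.1 ↔ _
      rw [← hkq, ← map_inv, ← map_mul, ← map_mul, ← mul_inv_eq_one, ← map_inv, ← map_mul]
      exact QuotientGroup.eq_one_iff _
    rw [e]
    refine ⟨hfrob k (hNK hk) hk1 x, fun hx => hder ?_⟩
    have := Subgroup.commutator_mem_commutator hx (hNK hk)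
    rwa [commutatorElement_def] at this
  have hdvd : K.index ∣ Nat.card X := by
    have := Fintype.ofFinite (Quotient (MulAction.orbitRel L X))
    rw [Nat.card_congr (MulAction.selfEquivSigmaOrbits L X), Nat.card_sigma]
    refine Finset.dvd_sum fun ω _ => ?_
    rw [Nat.card_congr (MulAction.orbitEquivQuotientStabilizer L ω.out), hstab]
    exact dvd_rfl
  have hcard : Nat.card X + 1 = H₁.relIndex N := by
    have h1 : H₁.relIndex N = Nat.card Nb := by
      rw [← Subgroup.relIndex_ker, QuotientGroup.ker_mk']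
    rw [h1, ← Finite.card_option]
    exact Nat.card_congr
      { toFun := fun o => o.elim ⟨1, Nb.one_mem⟩ fun q => ⟨q.1, q.2.1⟩
        invFun := fun q => if h : (q : L ⧸ H₁) = 1 then none else some ⟨q, q.2, h⟩
        left_inv := fun o => by
          rcases o with _ | q
          · simp
          · simp [q.2.2]
        right_inv := fun q => by
          by_cases h : (q : L ⧸ H₁) = 1
          · simp [h, Subtype.ext_iff]
          · simp [h] }
  rw [← hcard, Nat.add_sub_cancel]
  exact hdvd

/-- A nilpotent group generated modulo its derived group by one element is abelian. -/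
theorem comm_of_cyclic_abelianization {Q : Type u} [Group Q] [Finite Q] (hQ : Group.IsNilpotent Q)
    (g : Q) (hg : Subgroup.zpowers g ⊔ commutator Q = ⊤) (a b : Q) : a * b = b * a := by
  have htop : Subgroup.zpowers g = ⊤ := by
    by_contra hne
    obtain ⟨X, hX, hgX⟩ := (eq_top_or_exists_le_coatom (Subgroup.zpowers g)).resolve_left hne
    have htfae := (Group.isNilpotent_of_finite_tfae (G := Q)).out 0 2
      (a := Group.IsNilpotent Q) (b := ∀ H : Subgroup Q, IsCoatom H → H.Normal)
    have hXn : X.Normal := htfae.mp hQ X hX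
    have hsimple : IsSimpleGroup (Q ⧸ X) := by
      have : Nontrivial (Q ⧸ X) := QuotientGroup.nontrivial_iff.mpr hX.1
      refine ⟨fun Y hY => ?_⟩
      have h1 : X ≤ Y.comap (QuotientGroup.mk' X) := QuotientGroup.le_comap_mk' X Y
      rcases eq_or_lt_of_le h1 with h2 | h2
      · left
        have := congrArg (Subgroup.map (QuotientGroup.mk' X)) h2
        rwa [Subgroup.map_comap_eq_self_of_surjective (QuotientGroup.mk'_surjective X),
          QuotientGroup.map_mk'_self, eq_comm] at this
      · right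
        have := congrArg (Subgroup.map (QuotientGroup.mk' X)) (hX.2 _ h2)
        rwa [Subgroup.map_comap_eq_self_of_surjective (QuotientGroup.mk'_surjective X),
          ← MonoidHom.range_eq_map, MonoidHom.range_eq_top.mpr (QuotientGroup.mk'_surjective X)] at this
    have : Group.IsSolvable (Q ⧸ X) := inferInstance
    have hc : commutator Q ≤ X := by
      have h := (IsSimpleGroup.comm_iff_isSolvable (G := Q ⧸ X)).mpr this
      rw [commutator_def, Subgroup.commutator_le]
      intro x _ y _
      rw [← QuotientGroup.eq_one_iff, commutatorElement_def]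
      simp only [QuotientGroup.mk_mul, QuotientGroup.mk_inv]
      rw [h (x : Q ⧸ X) (y : Q ⧸ X), mul_inv_cancel_right, mul_inv_cancel]
    exact hX.1 (eq_top_iff.mpr (hg ▸ sup_le hgX hc))
  obtain ⟨i, rfl⟩ := Subgroup.mem_zpowers_iff.mp (htop ▸ Subgroup.mem_top a)
  obtain ⟨j, rfl⟩ := Subgroup.mem_zpowers_iff.mp (htop ▸ Subgroup.mem_top b)
  exact zpow_mul_comm g i j

/-- A prime dividing the order of a nilpotent group divides the index of the derived group. -/
theorem prime_dvd_commutator_index {Q : Type u} [Group Q] [Finite Q] (hQ : Group.IsNilpotent Q)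
    {p : ℕ} [hp : Fact p.Prime] (hdvd : p ∣ Nat.card Q) : p ∣ (commutator Q).index := by
  obtain ⟨P, N, hN, hcomp⟩ := CfsgLib.Complement.hasNormalPComplement_of_isNilpotent (p := p) hQ
  obtain ⟨k, hk⟩ := IsPGroup.iff_card.mp P.2
  have hidx : N.index = p ^ k := hk ▸ hcomp.symm.index_eq_card
  have hk0 : k ≠ 0 := by
    rintro rfl
    have := (Subgroup.card_eq_one (H := (P : Subgroup Q))).mp (by rw [hk, pow_zero])
    exact P.ne_bot_of_dvd_card hdvd this
  have hNtop : N ≠ ⊤ := by
    intro h
    rw [h, Subgroup.index_top] at hidx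
    exact (Nat.one_lt_pow hk0 hp.out.one_lt).ne hidx
  have : Group.IsSolvable Q := inferInstance
  have hM : commutator Q ⊔ N ≠ ⊤ := by
    intro h
    have : Nontrivial (Q ⧸ N) := QuotientGroup.nontrivial_iff.mpr hNtop
    have hlt := Group.IsSolvable.commutator_lt_top_of_nontrivial (Q ⧸ N)
    apply hlt.ne
    have h2 := congrArg (Subgroup.map (QuotientGroup.mk' N)) h
    rw [Subgroup.map_sup, QuotientGroup.map_mk'_self, sup_bot_eq, commutator_def,
      Subgroup.map_commutator, ← MonoidHom.range_eq_map,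
      MonoidHom.range_eq_top.mpr (QuotientGroup.mk'_surjective N)] at h2
    exact h2
  have h1 : (commutator Q ⊔ N).index ∣ p ^ k := hidx ▸ Subgroup.index_dvd_of_le le_sup_right
  obtain ⟨j, -, hj⟩ := (Nat.dvd_prime_pow hp.out).mp h1
  have hj0 : j ≠ 0 := fun h => hM (Subgroup.index_eq_one.mp (by rw [hj, h, pow_zero]))
  exact (dvd_pow_self p hj0).trans (hj ▸ Subgroup.index_dvd_of_le le_sup_left)

/-- An odd divisor `e > 1` of `n - 1`, `n` odd and `> 1`, forces `2e + 1 ≤ n`. -/
theorem two_mul_index_le {e n : ℕ} (he : Odd e) (hn : Odd n) (hn1 : n ≠ 1) (h : e ∣ n - 1) :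
    2 * e + 1 ≤ n := by
  obtain ⟨c, hc⟩ := h
  obtain ⟨a, rfl⟩ := he
  obtain ⟨b, rfl⟩ := hn
  have hc0 : c ≠ 0 := by rintro rfl; rw [mul_zero] at hc; omega
  have hc1 : c ≠ 1 := by rintro rfl; omega
  have hc2 : 2 ≤ c := by omega
  have := Nat.mul_le_mul_left (2 * a + 1) hc2
  omega

end CfsgLib.Coherent
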