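import Cfsg.Agent.Lib.Coherent.InducedSet

/-!
# Membership in the sets of induced characters
-/

set_option autoImplicit false
set_option linter.unusedSectionVars false

namespace CfsgLib.Coherent

open scoped ComplexConjugate
open CfsgLib.Clifford

universe u

variable {L : Type u} [Group L] [Fintype L] (K : Subgroup L) [hK : K.Normal] [Fintype K]

/-- `θ` is a constituent of the restriction of its induced function. -/
theorem classInner_indFun_restrict_ne {θ : K → ℂ} (hθ : Cfsg.IsIrrCharacter K θ) :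
    Cfsg.classInner (fun k : K => Cfsg.indFun K θ k) θ ≠ 0 := by
  rw [classInner_indFun_restrict hθ hθ]
  have : Nonempty {x : L // conjFn x θ = θ} := ⟨⟨1, conjFn_one θ⟩⟩
  exact mul_ne_zero (inv_ne_zero (by exact_mod_cast Nat.card_pos.ne')) (by exact_mod_cast Nat.card_pos.ne')

/-- If the induced function is constant on a normal subgroup, so is `θ`. -/
theorem above_of_indFun_const {A : Subgroup L} {θ : K → ℂ} (hθ : Cfsg.IsIrrCharacter K θ)
    (h : ∀ a : K, (a : L) ∈ A → Cfsg.indFun K θ a = Cfsg.indFun K θ 1) :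
    ∀ a : K, (a : L) ∈ A → θ a = θ 1 := fun a ha =>
  constituent_eq_one (CfsgLib.Char.isCharacter_restrict
    (CfsgLib.Char.isCharacter_indFun K (CfsgLib.Char.irr_isCharacter hθ)) K) hθ
    (classInner_indFun_restrict_ne K hθ) (h a ha)

theorem mem_inducedIrrAbove_iff {A : Subgroup L} [A.Normal] {θ : K → ℂ}
    (hθ : Cfsg.IsIrrCharacter K θ) (h1 : θ ≠ fun _ => 1) :
    Cfsg.indFun K θ ∈ Cfsg.inducedIrrAbove K A ↔ ∀ a : K, (a : L) ∈ A → θ a = θ 1 := by
  refine ⟨?_, fun h => ⟨θ, hθ, h1, h, rfl⟩⟩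
  rintro ⟨θ', -, -, hA, e⟩
  refine above_of_indFun_const K hθ fun a ha => ?_
  rw [e]
  exact indFun_apply_of_mem K hA ha

/-- The characters not constant on `Z ≤ K`, when the functions induced from characters of `K` not
constant on `Z` are irreducible. -/
theorem diff_eq_setOf {Z : Subgroup L} [Z.Normal] (hZK : Z ≤ K)
    (hirr : ∀ χ ∈ Cfsg.inducedIrrAbove K ⊥ \ Cfsg.inducedIrrAbove K Z, Cfsg.IsIrrCharacter L χ) :
    Cfsg.inducedIrrAbove K ⊥ \ Cfsg.inducedIrrAbove K Z =
      {χ | Cfsg.IsIrrCharacter L χ ∧ ∃ z ∈ Z, χ z ≠ χ 1} := by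
  ext χ
  constructor
  · intro hχ
    refine ⟨hirr χ hχ, ?_⟩
    obtain ⟨⟨θ, hθ, h1, -, rfl⟩, hn⟩ := hχ
    rw [mem_inducedIrrAbove_iff K hθ h1] at hn
    by_contra hcon
    push Not at hcon
    exact hn (above_of_indFun_const K hθ fun a ha => hcon a ha)
  · rintro ⟨hχ, z, hz, hzne⟩
    obtain ⟨θ, hθ, hne⟩ := exists_irr_constituent_restrict (N := K) hχ
    have hcons : Cfsg.classInner (Cfsg.indFun K θ) χ ≠ 0 := by
      rw [CfsgLib.Char.frobenius_reciprocity _ _ _ (CfsgLib.Char.irr_isClassFunction hχ),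
        ← CfsgLib.Char.classInner_conj_symm]
      simpa using hne
    have hnot : ¬ ∀ a : K, (a : L) ∈ Z → θ a = θ 1 := fun h => hzne
      (constituent_eq_one (CfsgLib.Char.isCharacter_indFun K (CfsgLib.Char.irr_isCharacter hθ)) hχ
        hcons (indFun_apply_of_mem K h (a := ⟨z, hZK hz⟩) hz))
    have h1 : θ ≠ fun _ => 1 := by rintro rfl; exact hnot fun _ _ => rfl
    have hmem : Cfsg.indFun K θ ∈ Cfsg.inducedIrrAbove K ⊥ \ Cfsg.inducedIrrAbove K Z :=
      ⟨⟨θ, hθ, h1, fun a ha => by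
        rw [show a = 1 from Subtype.ext (Subgroup.mem_bot.mp ha)], rfl⟩,
        fun h => hnot ((mem_inducedIrrAbove_iff K hθ h1).mp h)⟩
    have he : Cfsg.indFun K θ = χ := by
      by_contra hne'
      exact hcons (CfsgLib.Char.irr_classInner_ne (hirr _ hmem) hχ hne')
    exact he ▸ hmem

/-- The degree of a member. -/
theorem degree_eq {θ : K → ℂ} {m : ℕ} (hm : θ 1 = m) :
    Cfsg.indFun K θ 1 = ((K.index * m : ℕ) : ℂ) := by
  rw [CfsgLib.Char.indFun_apply_one, hm, Nat.cast_mul]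

end CfsgLib.Coherent
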