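import Cfsg.Agent.Lib.Coherent.SystemInduced
import Mathlib.GroupTheory.Nilpotent

/-!
# Descending along a nilpotent section
-/

set_option autoImplicit false
set_option linter.unusedSectionVars false

namespace CfsgLib.Coherent

open scoped commutatorElement

universe u v

variable {L : Type u} [Group L]

theorem lowerCentralSeries_le_of_nilpotent {M H : Subgroup L} [(M.subgroupOf H).Normal]
    (hnil : Group.IsNilpotent (↥H ⧸ M.subgroupOf H)) : ∃ n, H.lowerCentralSeries n ≤ M := by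
  obtain ⟨n, hn⟩ := Subgroup.nilpotent_iff_lowerCentralSeries.mp hnil
  refine ⟨n, ?_⟩
  rw [← Subgroup.top_subtype_lowerCentralSeries, Subgroup.map_le_iff_le_comap]
  show _ ≤ M.subgroupOf H
  intro x hx
  have h : QuotientGroup.mk' (M.subgroupOf H) x ∈
      ((⊤ : Subgroup H).lowerCentralSeries n).map (QuotientGroup.mk' (M.subgroupOf H)) :=
    Subgroup.mem_map_of_mem _ hx
  rw [Subgroup.map_lowerCentralSeries, ← MonoidHom.range_eq_map,
    MonoidHom.range_eq_top.mpr (QuotientGroup.mk'_surjective _), hn, Subgroup.mem_bot] at h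
  exact (QuotientGroup.eq_one_iff x).mp h

/-- A minimal normal step above `B` inside a nilpotent section is central. -/
theorem central_of_minimal {M H B B' : Subgroup L} [H.Normal] [B.Normal] [B'.Normal]
    {n : ℕ} (hn : H.lowerCentralSeries n ≤ M) (hMB : M ≤ B) (hBB' : B ≤ B') (hB'H : B' ≤ H)
    (hmin : ∀ N : Subgroup L, N.Normal → B ≤ N → N ≤ B' → N = B ∨ N = B') :
    ∀ x ∈ B', ∀ y ∈ H, x * y * x⁻¹ * y⁻¹ ∈ B := by
  have hN : (⁅B', H⁆ ⊔ B).Normal := inferInstance
  rcases hmin _ hN le_sup_right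
    (sup_le ((Subgroup.commutator_le_left _ _)) hBB') with h | h
  · intro x hx y hy
    rw [← h]
    exact Subgroup.mem_sup_left (by
      simpa [commutatorElement_def] using Subgroup.commutator_mem_commutator hx hy)
  · -- the nilpotent case forces `B' = B`
    set f := QuotientGroup.mk' B
    have he : ⁅B'.map f, H.map f⁆ = B'.map f := by
      conv_rhs => rw [← h, Subgroup.map_sup, QuotientGroup.map_mk'_self, sup_bot_eq,
        Subgroup.map_commutator]
    have hk : ∀ i, B'.map f ≤ (H.map f).lowerCentralSeries i := by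
      intro i
      induction i with
      | zero => exact Subgroup.map_mono hB'H
      | succ i ih => rw [Subgroup.lowerCentralSeries_succ, ← he]; exact Subgroup.commutator_mono ih le_rfl
    have h1 := hk n
    rw [← Subgroup.map_lowerCentralSeries] at h1
    have h2 : B' ≤ B := by
      have h3 := h1.trans (Subgroup.map_mono (hn.trans hMB))
      rw [QuotientGroup.map_mk'_self, le_bot_iff, Subgroup.map_eq_bot_iff, QuotientGroup.ker_mk'] at h3
      exact h3
    intro x hx y hy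
    have hxB := h2 hx
    have := B.mul_mem hxB (‹B.Normal›.conj_mem _ (B.inv_mem hxB) y)
    simpa [mul_assoc] using this

theorem arith_step {a b e : ℕ} (ha : 1 ≤ a) (hb : 4 * e ^ 2 + 1 < b) :
    4 * e ^ 2 * a ^ 2 * b < (a * b - 1) ^ 2 := by
  obtain ⟨c, rfl⟩ : ∃ c, b = 4 * e ^ 2 + 2 + c := ⟨b - (4 * e ^ 2 + 2), by omega⟩
  have h1 : 1 ≤ a * (4 * e ^ 2 + 2 + c) := Nat.one_le_iff_ne_zero.mpr (by positivity)
  zify [h1]
  have ha' : (1 : ℤ) ≤ a := by exact_mod_cast ha
  have he : (0 : ℤ) ≤ e := Int.natCast_nonneg e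
  have hc : (0 : ℤ) ≤ c := Int.natCast_nonneg c
  nlinarith [mul_nonneg (mul_nonneg (mul_nonneg (sub_nonneg.mpr ha') (sub_nonneg.mpr ha')) hc) hc,
    mul_le_mul_of_nonneg_left ha' (show (0 : ℤ) ≤ (a : ℤ) * (4 * (e : ℤ) ^ 2 + 2 + c) by positivity),
    mul_nonneg (show (0 : ℤ) ≤ (a : ℤ) ^ 2 * (4 * (e : ℤ) ^ 2 + 2 + c) by positivity) hc]

variable [Fintype L] {G : Type v} [Group G] [Fintype G]
variable (K : Subgroup L) [K.Normal] {τ : (L → ℂ) → (G → ℂ)} {R : (L → ℂ) → Finset (G → ℂ)}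

/-- If `H/M` is nilpotent and `[H : H₁]` is large, coherence descends from `S(H₁)` to `S(M)`. -/
theorem descend (hsolv : Group.IsSolvable K)
    (hS : Cfsg.IsCoherenceSystem (Cfsg.inducedIrrAbove K ⊥) τ R) (M H₁ H : Subgroup L) [M.Normal]
    [H₁.Normal] [H.Normal] (hMH₁ : M ≤ H₁) (hH₁H : H₁ ≤ H) (hHK : H ≤ K) {n : ℕ}
    (hn : H.lowerCentralSeries n ≤ M)
    (hcoh : Cfsg.IsCoherent (Cfsg.inducedIrrAbove K H₁) {1}ᶜ τ)
    (hbig : 4 * K.index ^ 2 + 1 < H₁.relIndex H) :
    Cfsg.IsCoherent (Cfsg.inducedIrrAbove K M) {1}ᶜ τ := by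
  suffices h : ∀ k, ∀ B : Subgroup L, B.Normal → M ≤ B → B ≤ H₁ → B.relIndex H₁ = k →
      Cfsg.IsCoherent (Cfsg.inducedIrrAbove K B) {1}ᶜ τ from h _ M ‹M.Normal› le_rfl hMH₁ rfl
  intro k
  induction k using Nat.strong_induction_on with
  | _ k ih =>
    intro B hBn hMB hBH₁ hk
    rcases eq_or_lt_of_le hBH₁ with rfl | hlt'
    · exact hcoh
    obtain ⟨B', ⟨hB'n, hBB', hB'H₁⟩, hmin⟩ := Set.Finite.exists_minimal
      (s := {N : Subgroup L | N.Normal ∧ B < N ∧ N ≤ H₁}) (Set.toFinite _)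
      ⟨H₁, ‹H₁.Normal›, hlt', le_rfl⟩
    have hlt : B'.relIndex H₁ < k := by
      rw [← hk, ← Subgroup.relIndex_mul_relIndex B B' H₁ hBB'.le hB'H₁]
      have h1 : 1 < B.relIndex B' := by
        have h0 : B.relIndex B' ≠ 0 := Subgroup.index_ne_zero_of_finite
        have h2 : B.relIndex B' ≠ 1 := fun h => hBB'.not_ge (Subgroup.relIndex_eq_one.mp h)
        omega
      exact lt_mul_left (Nat.pos_of_ne_zero Subgroup.index_ne_zero_of_finite) h1
    have hB'coh := ih _ hlt B' hB'n (hMB.trans hBB'.le) hB'H₁ rfl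
    have hcent := central_of_minimal (H := H) (B := B) (B' := B') hn hMB hBB'.le (hB'H₁.trans hH₁H)
      fun N hN h1 h2 => by
        rcases eq_or_lt_of_le h1 with e | e
        · exact Or.inl e.symm
        · exact Or.inr (le_antisymm h2 (hmin ⟨hN, e, h2.trans hB'H₁⟩ h2))
    have hb : 4 * K.index ^ 2 + 1 < B'.relIndex H := by
      refine lt_of_lt_of_le hbig (Nat.le_of_dvd (Nat.pos_of_ne_zero Subgroup.index_ne_zero_of_finite)
        ⟨B'.relIndex H₁, ?_⟩)
      rw [← Subgroup.relIndex_mul_relIndex B' H₁ H hB'H₁ hH₁H, mul_comm]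
    have hB'K : B' < K := lt_of_le_of_lt (hB'H₁) (lt_of_lt_of_le (lt_of_le_of_ne hH₁H fun e => by
      subst e; rw [Subgroup.relIndex_self] at hbig; omega) hHK)
    refine step K hsolv hS B' B H B' hB'K (hBB'.trans hB'K) hBB'.le (hB'H₁.trans hH₁H) hHK hcent
      hB'coh ?_
    rw [← Subgroup.relIndex_mul_index hHK, mul_pow,
      ← Subgroup.relIndex_mul_relIndex B' H K (hB'H₁.trans hH₁H) hHK, mul_comm (B'.relIndex H)]
    calc 4 * (H.relIndex K ^ 2 * K.index ^ 2) * B'.relIndex H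
        = 4 * K.index ^ 2 * H.relIndex K ^ 2 * B'.relIndex H := by ring
      _ < _ := arith_step (Nat.one_le_iff_ne_zero.mpr Subgroup.index_ne_zero_of_finite) hb

end CfsgLib.Coherent
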