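import Cfsg.Agent.Lib.Coherent.AboveBasics
import Cfsg.Agent.Lib.Coherent.FrobeniusQuot
import Cfsg.Agent.Lib.Coherent.Descend
import Cfsg.Agent.Lib.Clifford.Frobenius

/-!
# A normal subgroup containing the centralisers of its non-identity elements: sections and degrees
-/

set_option autoImplicit false
set_option linter.unusedSectionVars false

namespace CfsgLib.Coherent

open scoped commutatorElement
open CfsgLib.Clifford

universe u

variable {L : Type u} [Group L] [Fintype L] {H : Subgroup L} [hH : H.Normal]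
variable (hC : ∀ h ∈ H, h ≠ 1 → Subgroup.centralizer ({h} : Set L) ≤ H)
include hC

theorem frobenius_irr [Fintype H] {A : Subgroup L} {χ : L → ℂ}
    (h : χ ∈ Cfsg.inducedIrrAbove H A) : Cfsg.IsIrrCharacter L χ := by
  obtain ⟨θ, hθ, h1, -, rfl⟩ := h
  exact isIrrCharacter_indFun_of_centralizer_le hC hθ h1

theorem frobenius_setOf_eq [Fintype H] :
    {χ : L → ℂ | Cfsg.IsIrrCharacter L χ ∧ ∃ h ∈ H, χ h ≠ χ 1} = Cfsg.inducedIrrAbove H ⊥ := by
  ext χ
  constructor
  · rintro ⟨hχ, hker⟩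
    obtain ⟨θ, hθ, h1, rfl⟩ := exists_eq_indFun_of_centralizer_le hC hχ hker
    exact ⟨θ, hθ, h1, fun a ha => by rw [show a = 1 from Subtype.ext (Subgroup.mem_bot.mp ha)], rfl⟩
  · intro hmem
    refine ⟨frobenius_irr hC hmem, ?_⟩
    obtain ⟨θ, hθ, h1, -, rfl⟩ := hmem
    by_contra hcon
    push Not at hcon
    have hconst := above_of_indFun_const H hθ (A := H) fun a _ => hcon a a.2
    apply h1
    by_contra hne
    have h0 := CfsgLib.Char.irr_classInner_ne hθ CfsgLib.Char.isIrrCharacter_one hne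
    rw [show θ = θ 1 • (fun _ => (1 : ℂ)) from funext fun n => by simp [hconst n n.2],
      CfsgLib.Char.classInner_smul_left,
      CfsgLib.Char.irr_classInner_self CfsgLib.Char.isIrrCharacter_one, mul_one] at h0
    exact CfsgLib.Char.irr_apply_one_ne_zero hθ h0

/-- The kernel is nilpotent. -/
theorem frobenius_kernel_nilpotent (hH2 : H ≠ ⊤) : Group.IsNilpotent H := by
  classical
  have h1 : H.index ≠ 1 := fun h => hH2 (Subgroup.index_eq_one.mp h)
  obtain ⟨r, hr, hrd⟩ := Nat.exists_prime_and_dvd h1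
  have := Fact.mk hr
  obtain ⟨q, hq⟩ := exists_prime_orderOf_dvd_card' (G := L ⧸ H) r hrd
  obtain ⟨x, rfl⟩ := QuotientGroup.mk'_surjective H q
  have hxH : x ∉ H := fun h => hr.ne_one (by
    rw [← hq, show QuotientGroup.mk' H x = 1 from (QuotientGroup.eq_one_iff x).mpr h, orderOf_one])
  have hxr : x ^ r ∈ H := by
    rw [← QuotientGroup.eq_one_iff, QuotientGroup.mk_pow]
    exact (orderOf_dvd_iff_pow_eq_one).mp hq.dvd
  have hfix : ∀ h : L, h ∈ H → x * h = h * x → h = 1 := fun h hh e => by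
    by_contra hne
    exact hxH (hC h hh hne (Subgroup.mem_centralizer_singleton_iff.mpr e))
  have hx1 : x ^ r = 1 := hfix _ hxr (by rw [← pow_succ, ← pow_succ'])
  refine CfsgLib.Complement.isNilpotent_of_fpf H (MulAut.conjNormal x) r hr
    (by rw [← map_pow, hx1, map_one]) fun y hy => Subtype.ext (hfix y y.2 ?_)
  have h2 := congrArg Subtype.val hy
  rw [MulAut.conjNormal_apply] at h2
  exact mul_inv_eq_iff_eq_mul.mp h2

/-- A normal subgroup in the kernel has order congruent to one modulo the index. -/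
theorem index_dvd_card_sub_one {A : Subgroup L} [hA : A.Normal] (hAH : A ≤ H) :
    H.index ∣ Nat.card A - 1 := by
  classical
  let X := {q : A // q ≠ 1}
  let : MulAction L X :=
    { smul := fun x q => ⟨⟨x * q.1 * x⁻¹, hA.conj_mem _ q.1.2 x⟩, fun h => q.2 (Subtype.ext
        (conj_eq_one_iff.mp (congrArg Subtype.val h)))⟩
      one_smul := fun q => Subtype.ext (Subtype.ext (show (1 : L) * q.1 * 1⁻¹ = q.1 by simp))
      mul_smul := fun x y q => Subtype.ext (Subtype.ext (show x * y * (q.1 : L) * (x * y)⁻¹ =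
          x * (y * q.1 * y⁻¹) * x⁻¹ by simp [mul_assoc])) }
  have hstab : ∀ q : X, MulAction.stabilizer L q ≤ H := by
    intro q x hx
    refine hC _ (hAH q.1.2) (fun h => q.2 (Subtype.ext h))
      (Subgroup.mem_centralizer_singleton_iff.mpr ?_)
    have h := congrArg (fun z : X => (z.1 : L)) (MulAction.mem_stabilizer_iff.mp hx)
    exact mul_inv_eq_iff_eq_mul.mp h
  have hdvd : H.index ∣ Nat.card X := by
    have := Fintype.ofFinite (Quotient (MulAction.orbitRel L X))
    rw [Nat.card_congr (MulAction.selfEquivSigmaOrbits L X), Nat.card_sigma]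
    refine Finset.dvd_sum fun ω _ => ?_
    rw [Nat.card_congr (MulAction.orbitEquivQuotientStabilizer L ω.out)]
    exact Subgroup.index_dvd_of_le (hstab ω.out)
  have := Fintype.ofFinite A
  rw [Nat.card_eq_fintype_card (α := A)]
  rw [Nat.card_eq_fintype_card, Fintype.card_subtype_compl, Fintype.card_subtype_eq] at hdvd
  exact hdvd

/-- An invariant section of the kernel has order congruent to one modulo the index. -/
theorem index_dvd_section {A B : Subgroup L} [A.Normal] [B.Normal] (hAB : A ≤ B) (hBH : B ≤ H) :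
    H.index ∣ A.relIndex B - 1 := by
  have h1 := index_dvd_card_sub_one hC (hAB.trans hBH)
  have h2 := index_dvd_card_sub_one hC hBH
  have e : A.relIndex B * Nat.card A = Nat.card B := by
    rw [← Nat.card_congr (Subgroup.subgroupOfEquivOfLe hAB).toEquiv]
    exact Subgroup.index_mul_card (A.subgroupOf B)
  have hn : 1 ≤ A.relIndex B := Nat.pos_of_ne_zero Subgroup.index_ne_zero_of_finite
  obtain ⟨a, ha⟩ := h1
  obtain ⟨b, hb⟩ := h2
  have hA1 : 1 ≤ Nat.card A := Nat.card_pos
  have hB1 : 1 ≤ Nat.card B := Nat.card_pos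
  rw [← Int.natCast_dvd_natCast, Nat.cast_sub hn]
  refine ⟨(b : ℤ) - (A.relIndex B : ℤ) * a, ?_⟩
  zify [hA1, hB1] at ha hb e
  push_cast
  linear_combination (-(A.relIndex B : ℤ)) * ha + hb + e

theorem index_lt_section {A B : Subgroup L} [A.Normal] [B.Normal] (hAB : A < B) (hBH : B ≤ H) :
    H.index + 1 ≤ A.relIndex B := by
  have h1 : A.relIndex B ≠ 1 := fun h => hAB.not_ge (Subgroup.relIndex_eq_one.mp h)
  have h0 : A.relIndex B ≠ 0 := Subgroup.index_ne_zero_of_finite
  have := Nat.le_of_dvd (by omega) (index_dvd_section hC hAB.le hBH)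
  omega

omit hC

/-- The Sylow subgroups of a nilpotent normal subgroup are normal. -/
theorem exists_normal_sylow (hnil : Group.IsNilpotent H) (p : ℕ) [hp : Fact p.Prime] :
    ∃ P : Subgroup L, P.Normal ∧ P ≤ H ∧ (∃ k, Nat.card P = p ^ k) ∧ ¬ p ∣ P.relIndex H := by
  obtain ⟨P⟩ := (inferInstance : Nonempty (Sylow p H))
  have htfae := (Group.isNilpotent_of_finite_tfae (G := H)).out 0 3
    (a := Group.IsNilpotent H)
    (b := ∀ (q : ℕ) (_ : Fact q.Prime) (Q : Sylow q H), (Q : Subgroup H).Normal)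
  have hn : (P : Subgroup H).Normal := htfae.mp hnil p hp P
  have := Sylow.characteristic_of_normal P hn
  refine ⟨(P : Subgroup H).map H.subtype, ConjAct.normal_of_characteristic_of_normal,
    Subgroup.map_subtype_le _, ?_, ?_⟩
  · obtain ⟨k, hk⟩ := IsPGroup.iff_card.mp P.2
    exact ⟨k, by rw [Subgroup.card_map_of_injective H.subtype_injective]; exact hk⟩
  · rw [Subgroup.relIndex, Subgroup.subgroupOf,
      Subgroup.comap_map_eq_self_of_injective H.subtype_injective]
    exact P.not_dvd_index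

theorem commutator_subgroupOf (K : Subgroup L) : ⁅K, K⁆.subgroupOf K = commutator K := by
  rw [← Subgroup.map_subtype_commutator, Subgroup.subgroupOf,
    Subgroup.comap_map_eq_self_of_injective K.subtype_injective]

theorem prime_dvd_derived (hnil : Group.IsNilpotent H) {p : ℕ} [Fact p.Prime]
    (hdvd : p ∣ Nat.card H) : p ∣ ⁅H, H⁆.relIndex H := by
  rw [Subgroup.relIndex, commutator_subgroupOf]
  exact prime_dvd_commutator_index hnil hdvd

theorem derived_lt (hnil : Group.IsNilpotent H) (hH1 : H ≠ ⊥) : ⁅H, H⁆ < H := by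
  refine lt_of_le_of_ne (Subgroup.commutator_le_self H) fun h => hH1 ?_
  have : Nat.card H = 1 := by
    by_contra h1
    obtain ⟨p, hp, hpd⟩ := Nat.exists_prime_and_dvd h1
    have := Fact.mk hp
    have h2 := prime_dvd_derived hnil hpd
    rw [h, Subgroup.relIndex_self] at h2
    exact hp.not_dvd_one h2
  exact Subgroup.card_eq_one.mp this

include hC

/-- With two primes in the order, the sections above the derived group are large. -/
theorem section_large (hnil : Group.IsNilpotent H) {p q : ℕ} [hp : Fact p.Prime] [hq : Fact q.Prime]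
    (hpq : p ≠ q) (hpd : p ∣ Nat.card H) (hqd : q ∣ Nat.card H) {A : Subgroup L} [A.Normal]
    (hA : A ≤ ⁅H, H⁆) : (H.index + 1) * (2 * H.index + 1) ≤ A.relIndex H := by
  have hAH : A ≤ H := hA.trans (Subgroup.commutator_le_self H)
  have hdiv : ∀ r, ∀ [Fact r.Prime], r ∣ Nat.card H → r ∣ A.relIndex H := fun r _ hr => by
    rw [← Subgroup.relIndex_mul_relIndex A ⁅H, H⁆ H hA (Subgroup.commutator_le_self H)]
    exact dvd_mul_of_dvd_right (prime_dvd_derived hnil hr) _
  obtain ⟨P, hPn, hPH, ⟨k, hk⟩, hPi⟩ := exists_normal_sylow hnil p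
  have hX : P ⊔ A ≤ H := sup_le hPH hAH
  set a := A.relIndex (P ⊔ A) with ha
  set b := (P ⊔ A).relIndex H with hb
  have hab : a * b = A.relIndex H := Subgroup.relIndex_mul_relIndex A _ H le_sup_right hX
  obtain ⟨i, -, hai⟩ : ∃ i ≤ k, a = p ^ i := (Nat.dvd_prime_pow hp.out).mp (by
    rw [ha, Subgroup.relIndex_sup_right, ← hk]
    exact (A.subgroupOf P).index_dvd_card)
  have hpb : ¬ p ∣ b := fun h => hPi (h.trans ⟨P.relIndex (P ⊔ A), by
    rw [mul_comm, Subgroup.relIndex_mul_relIndex P _ H le_sup_left hX]⟩)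
  have hpa : p ∣ a := (hp.out.dvd_mul.mp (hab ▸ hdiv p hpd)).resolve_right hpb
  have hqa : ¬ q ∣ a := fun h => hpq ((Nat.prime_dvd_prime_iff_eq hq.out hp.out).mp
    (hq.out.dvd_of_dvd_pow (hai ▸ h))).symm
  have hqb : q ∣ b := (hq.out.dvd_mul.mp (hab ▸ hdiv q hqd)).resolve_left hqa
  have ha1 : a ≠ 1 := fun h => hp.out.not_dvd_one (h ▸ hpa)
  have hb1 : b ≠ 1 := fun h => hq.out.not_dvd_one (h ▸ hqb)
  have hne : a ≠ b := fun h => hpb (h ▸ hpa)
  have ha0 : a ≠ 0 := Subgroup.index_ne_zero_of_finite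
  have hb0 : b ≠ 0 := Subgroup.index_ne_zero_of_finite
  obtain ⟨s, hs⟩ := index_dvd_section hC (le_sup_right : A ≤ P ⊔ A) hX
  obtain ⟨t, ht⟩ := index_dvd_section hC hX le_rfl
  rw [← ha] at hs; rw [← hb] at ht
  rw [← hab, show a = H.index * s + 1 by omega, show b = H.index * t + 1 by omega]
  have hs0 : 1 ≤ s := Nat.pos_of_ne_zero fun h => ha1 (by rw [h, mul_zero] at hs; omega)
  have ht0 : 1 ≤ t := Nat.pos_of_ne_zero fun h => hb1 (by rw [h, mul_zero] at ht; omega)
  rcases lt_or_gt_of_ne (fun h : s = t => hne (by rw [h] at hs; omega)) with h | h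
  · exact Nat.mul_le_mul (by nlinarith) (by nlinarith)
  · rw [mul_comm (H.index * s + 1)]
    exact Nat.mul_le_mul (by nlinarith) (by nlinarith)

omit hC

/-- In the kernel modulo a minimal step below the derived group, some element outside the derived
group is central. -/
theorem exists_central_above (hnil : Group.IsNilpotent H) {p q : ℕ} [hp : Fact p.Prime]
    [hq : Fact q.Prime] (hpq : p ≠ q) (hpd : p ∣ Nat.card H) (hqd : q ∣ Nat.card H)
    {B : Subgroup L} [B.Normal] (hB : B < ⁅H, H⁆)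
    (hmin : ∀ N : Subgroup L, N.Normal → B ≤ N → N ≤ ⁅H, H⁆ → N = B ∨ N = ⁅H, H⁆)
    (hcent : ∀ x ∈ ⁅H, H⁆, ∀ y ∈ H, x * y * x⁻¹ * y⁻¹ ∈ B) :
    ∃ D : Subgroup L, D.Normal ∧ ⁅H, H⁆ < D ∧ D ≤ H ∧ ∀ x ∈ D, ∀ y ∈ H, x * y * x⁻¹ * y⁻¹ ∈ B := by
  set f := QuotientGroup.mk' B
  let D := H ⊓ (Subgroup.centralizer (H.map f : Set (L ⧸ B))).comap f
  have : (H.map f).Normal := hH.map f (QuotientGroup.mk'_surjective B)
  have hmemD : ∀ x ∈ H, (∀ y ∈ H, x * y * x⁻¹ * y⁻¹ ∈ B) → x ∈ D := by
    intro x hx h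
    refine ⟨hx, Subgroup.mem_centralizer_iff.mpr ?_⟩
    rintro _ ⟨y, hy, rfl⟩
    have h1 : f (x * y * x⁻¹ * y⁻¹) = 1 := (QuotientGroup.eq_one_iff _).mpr (h y hy)
    rw [map_mul, map_mul, map_mul, map_inv, map_inv, mul_inv_eq_one, mul_inv_eq_iff_eq_mul] at h1
    exact h1.symm
  have hDn : D.Normal := inferInstance
  refine ⟨D, hDn, lt_of_le_of_ne
    (fun x hx => hmemD x (Subgroup.commutator_le_self H hx) (hcent x hx)) fun hDeq => ?_,
    inf_le_left, fun x hx y hy => ?_⟩
  · obtain ⟨P, hPn, hPH, ⟨k, hk⟩, hPi⟩ := exists_normal_sylow hnil p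
    obtain ⟨Q, hQn, hQH, ⟨l, hl⟩, hQi⟩ := exists_normal_sylow hnil q
    have key : ∀ R : Subgroup L, R.Normal → R ≤ H → ∀ r, ∀ [Fact r.Prime], r ∣ Nat.card H →
        ¬ r ∣ R.relIndex H → (R ⊓ ⁅H, H⁆) ⊔ B = ⁅H, H⁆ := by
      intro R hRn hRH r _ hrd hri
      rcases hmin ((R ⊓ ⁅H, H⁆) ⊔ B) inferInstance le_sup_right (sup_le inf_le_right hB.le) with h | h
      swap; exact h
      exfalso
      apply hri
      have hRD : R ≤ D := fun x hx => hmemD x (hRH hx) fun y hy => by
        rw [← h]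
        refine Subgroup.mem_sup_left ⟨?_, ?_⟩
        · have : x * (y * x⁻¹ * y⁻¹) ∈ R := R.mul_mem hx (hRn.conj_mem _ (R.inv_mem hx) y)
          simpa [mul_assoc] using this
        · simpa [commutatorElement_def] using
            Subgroup.commutator_mem_commutator (hRH hx) hy
      refine (prime_dvd_derived hnil hrd).trans (Dvd.intro_left (R.relIndex ⁅H, H⁆) ?_)
      exact Subgroup.relIndex_mul_relIndex R _ H (hDeq ▸ hRD) (Subgroup.commutator_le_self H)
    have hP := key P hPn hPH p hpd hPi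
    have hQ := key Q hQn hQH q hqd hQi
    have hdvd : ∀ R : Subgroup L, (R ⊓ ⁅H, H⁆) ⊔ B = ⁅H, H⁆ → B.relIndex ⁅H, H⁆ ∣ Nat.card R := by
      intro R hR
      rw [← hR, Subgroup.relIndex_sup_right]
      exact ((B.subgroupOf _).index_dvd_card).trans (Subgroup.card_dvd_of_le inf_le_left)
    have h1 := Nat.dvd_gcd (hdvd P hP) (hdvd Q hQ)
    rw [hk, hl, Nat.Coprime.gcd_eq_one (Nat.Coprime.pow k l ((Nat.coprime_primes hp.out hq.out).mpr hpq)),
      Nat.dvd_one] at h1
    exact hB.not_ge (Subgroup.relIndex_eq_one.mp h1)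
  · have h := Subgroup.mem_centralizer_iff.mp hx.2 (f y) ⟨y, hy, rfl⟩
    rw [← QuotientGroup.eq_one_iff]
    show f (x * y * x⁻¹ * y⁻¹) = 1
    rw [map_mul, map_mul, map_mul, map_inv, map_inv, ← h, mul_inv_cancel_right, mul_inv_cancel]

end CfsgLib.Coherent
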