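import Cfsg.Agent.Lib.Coherent.FrobeniusKernel
import Cfsg.Agent.Lib.Solvable.FixedPointFree
import Mathlib.GroupTheory.Exponent

/-!
# The index of an odd Frobenius kernel divides the exponent of the quotient
-/

set_option autoImplicit false
set_option linter.unusedSectionVars false

namespace CfsgLib.Coherent

universe u

variable {L : Type u} [Group L] [Fintype L] {H : Subgroup L} [hH : H.Normal]
variable (hC : ∀ h ∈ H, h ≠ 1 → Subgroup.centralizer ({h} : Set L) ≤ H)
include hC

/-- The Sylow subgroups of the quotient by an odd Frobenius kernel are cyclic, so its order divides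
its exponent. -/
theorem index_dvd_exponent (hH1 : H ≠ ⊥) (hH2 : H ≠ ⊤) (hodd : Odd (Nat.card L)) :
    H.index ∣ Monoid.exponent (L ⧸ H) := by
  classical
  have hnil := frobenius_kernel_nilpotent hC hH2
  -- an abelian normal subgroup for the action
  have : Nontrivial H := (Subgroup.nontrivial_iff_ne_bot H).mpr hH1
  let V := (Subgroup.center H).map H.subtype
  have hVn : V.Normal := ConjAct.normal_of_characteristic_of_normal
  have hVH : V ≤ H := Subgroup.map_subtype_le _
  have hVne : Nontrivial V := (Subgroup.nontrivial_iff_ne_bot V).mpr fun h => by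
    have h1 : Subgroup.center H = ⊥ := (Subgroup.map_eq_bot_iff_of_injective _ H.subtype_injective).mp h
    have := Group.IsNilpotent.center_ne_bot (G := H)
    exact this h1
  let : CommGroup V :=
    { (inferInstance : Group V) with
      mul_comm := fun a b => by
        obtain ⟨a', ha', ha⟩ := a.2
        apply Subtype.ext
        show (a : L) * b = b * a
        rw [← ha]
        exact (congrArg Subtype.val (Subgroup.mem_center_iff.mp ha' ⟨b, hVH b.2⟩)).symm }
  have hcop : (Nat.card H).Coprime H.index := by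
    have hd := index_dvd_card_sub_one hC (A := H) le_rfl
    have h1 : 1 ≤ Nat.card H := Nat.card_pos
    refine Nat.coprime_of_dvd fun q hq hqH hqe => hq.ne_one (Nat.dvd_one.mp ?_)
    have := Nat.dvd_sub hqH (hqe.trans hd)
    rwa [Nat.sub_sub_self h1] at this
  have he0 : H.index ≠ 0 := Subgroup.index_ne_zero_of_finite
  rw [Nat.dvd_iff_prime_pow_dvd_dvd]
  intro r k hr hrk
  rcases Nat.eq_zero_or_pos k with rfl | hk
  · simp
  have := Fact.mk hr
  have hre : r ∣ H.index := (dvd_pow_self r hk.ne').trans hrk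
  have hr2 : r ≠ 2 := fun h => by
    subst h
    exact Nat.not_even_iff_odd.mpr (hodd.of_dvd_nat H.index_dvd_card) (even_iff_two_dvd.mpr hre)
  have hrH : ¬ r ∣ Nat.card H := fun h =>
    hr.ne_one (Nat.dvd_one.mp (hcop ▸ Nat.dvd_gcd h hre))
  obtain ⟨Q⟩ := (inferInstance : Nonempty (Sylow r L))
  let φ : (Q : Subgroup L) →* MulAut V :=
    (MulAut.conjNormal (H := V)).comp (Q : Subgroup L).subtype
  have hQH : ∀ x : L, x ∈ (Q : Subgroup L) → x ∈ H → x = 1 := fun x hxQ hxH => by
    obtain ⟨j, hj⟩ := IsPGroup.iff_orderOf.mp Q.2 ⟨x, hxQ⟩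
    rw [Subgroup.orderOf_mk] at hj
    have h1 := Subgroup.orderOf_dvd_natCard H hxH
    rw [hj] at h1
    rcases Nat.eq_zero_or_pos j with rfl | hj0
    · rwa [pow_zero, orderOf_eq_one_iff] at hj
    · exact absurd ((dvd_pow_self r hj0.ne').trans h1) hrH
  have hfpf : ∀ q : (Q : Subgroup L), q ≠ 1 → ∀ v : V, φ q v = v → v = 1 := by
    intro q hq v hv
    by_contra hv1
    have h2 : (q : L) * v * (q : L)⁻¹ = v := congrArg Subtype.val hv
    exact hq (Subtype.ext (hQH q q.2 (hC v (hVH v.2) (fun h => hv1 (Subtype.ext h))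
      (Subgroup.mem_centralizer_singleton_iff.mpr (mul_inv_eq_iff_eq_mul.mp h2)))))
  have hcyc : IsCyclic (Q : Subgroup L) := by
    obtain ⟨S⟩ := (inferInstance : Nonempty (Sylow r (Q : Subgroup L)))
    rcases CfsgLib.Solvable.isCyclic_or_quaternion_of_fpf φ hfpf S with h | ⟨h, -⟩
    · have hS : (S : Subgroup (Q : Subgroup L)) = ⊤ := by
        obtain ⟨S', hS'⟩ := (IsPGroup.to_subgroup Q.2 ⊤).exists_le_sylow
        obtain ⟨g, hg⟩ := MulAction.exists_smul_eq (Q : Subgroup L) S' S
        have htop : (S' : Subgroup (Q : Subgroup L)) = ⊤ := top_le_iff.mp hS'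
        rw [← hg, Sylow.coe_subgroup_smul, htop]
        exact Subgroup.map_top_of_surjective _ (MulAut.conj g).surjective
      have h' : IsCyclic (⊤ : Subgroup (Q : Subgroup L)) := hS ▸ h
      exact isCyclic_of_surjective (Subgroup.topEquiv (G := (Q : Subgroup L))).toMonoidHom
        (Subgroup.topEquiv (G := (Q : Subgroup L))).surjective
    · exact absurd h hr2
  obtain ⟨g, hg⟩ := IsCyclic.exists_generator (α := (Q : Subgroup L))
  let f := (QuotientGroup.mk' H).comp (Q : Subgroup L).subtype
  have hinj : Function.Injective f := (injective_iff_map_eq_one f).mpr fun q hq =>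
    Subtype.ext (hQH q q.2 ((QuotientGroup.eq_one_iff (q : L)).mp hq))
  have hord : r ^ k ∣ orderOf g := by
    rw [orderOf_eq_card_of_forall_mem_zpowers hg, Q.card_eq_multiplicity]
    exact Nat.pow_dvd_pow r ((hr.pow_dvd_iff_le_factorization Nat.card_pos.ne').mp
      (hrk.trans H.index_dvd_card))
  refine hord.trans ?_
  rw [← orderOf_injective f hinj g]
  exact Monoid.order_dvd_exponent _

end CfsgLib.Coherent
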