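import Cfsg.Agent.Lib.Coherent.Grow
import Cfsg.Agent.Lib.Coherent.InducedSet
import Cfsg.Agent.Lib.Clifford.TI

/-!
# Induction from the normaliser of a TI subgroup, and norm one bookkeeping
-/

set_option autoImplicit false
set_option linter.unusedSectionVars false

namespace CfsgLib.Coherent

open CfsgLib.Clifford.Coh

universe u v

section General

variable {L : Type u} [Group L] [Fintype L]

theorem indFun_eq_zero_of_not_mem (H : Subgroup L) [hH : H.Normal] (θ : H → ℂ) {x : L}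
    (hx : x ∉ H) : Cfsg.indFun H θ x = 0 := by
  rw [CfsgLib.Char.indFun_def, Finset.sum_eq_zero, mul_zero]
  intro g _
  exact CfsgLib.Char.extendByZero_of_not_mem _ fun h => hx (by
    simpa [mul_assoc] using hH.conj_mem _ h g)

theorem zspan_induced (H : Subgroup L) [H.Normal] [Fintype H] {α : L → ℂ}
    (hα : α ∈ Cfsg.zspan (Cfsg.inducedIrrAbove H ⊥)) :
    Cfsg.IsClassFunction L α ∧ Cfsg.IsGeneralizedCharacter L α ∧ ∀ x, x ∉ H → α x = 0 := by
  induction hα using Submodule.span_induction with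
  | mem φ hφ =>
    obtain ⟨θ, hθ, -, -, rfl⟩ := hφ
    exact ⟨CfsgLib.Char.indFun_isClassFunction _ _, CfsgLib.Char.isGeneralized_of_isCharacter
      (CfsgLib.Char.isCharacter_indFun H (CfsgLib.Char.irr_isCharacter hθ)),
      fun x hx => indFun_eq_zero_of_not_mem H θ hx⟩
  | zero => exact ⟨fun _ _ => rfl, CfsgLib.Char.isGeneralized_zero, fun _ _ => rfl⟩
  | add a b _ _ ha hb =>
    exact ⟨CfsgLib.Char.isGeneralized_isClassFunction (CfsgLib.Char.isGeneralized_add ha.2.1 hb.2.1),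
      CfsgLib.Char.isGeneralized_add ha.2.1 hb.2.1,
      fun x hx => by simp [ha.2.2 x hx, hb.2.2 x hx]⟩
  | smul n a _ ha =>
    have h : Cfsg.IsGeneralizedCharacter L (n • a) := by
      rw [← Int.cast_smul_eq_zsmul ℂ]; exact CfsgLib.Char.isGeneralized_zsmul ha.2.1 n
    exact ⟨CfsgLib.Char.isGeneralized_isClassFunction h, h, fun x hx => by simp [ha.2.2 x hx]⟩

/-- Two generalized characters of norm one are equal, opposite or orthogonal. -/
theorem norm_one_cases {u v : L → ℂ} (hu : Cfsg.IsGeneralizedCharacter L u)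
    (hv : Cfsg.IsGeneralizedCharacter L v) (hu1 : Cfsg.classInner u u = 1)
    (hv1 : Cfsg.classInner v v = 1) : u = v ∨ u = -v ∨ Cfsg.classInner u v = 0 := by
  have hn : ∀ a b : L → ℂ, Cfsg.classInner a (-b) = -Cfsg.classInner a b ∧
      Cfsg.classInner (-a) b = -Cfsg.classInner a b := fun a b => by
    constructor
    · rw [show -b = (-1 : ℂ) • b by simp, CfsgLib.Char.classInner_smul_right]; simp
    · rw [show -a = (-1 : ℂ) • a by simp, CfsgLib.Char.classInner_smul_left]; simp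
  have key : ∀ a b : L → ℂ, Cfsg.IsIrrCharacter L a → Cfsg.IsIrrCharacter L b →
      a = b ∨ Cfsg.classInner a b = 0 := fun a b ha hb =>
    (em (a = b)).imp id fun h => CfsgLib.Char.irr_classInner_ne ha hb h
  rcases CfsgLib.Char.isGeneralized_norm_one hu hu1 with h | h <;>
    rcases CfsgLib.Char.isGeneralized_norm_one hv hv1 with h' | h' <;>
    rcases key _ _ h h' with e | e
  · exact Or.inl e
  · exact Or.inr (Or.inr e)
  · exact Or.inr (Or.inl e)
  · exact Or.inr (Or.inr (by rwa [(hn u v).1, neg_eq_zero] at e))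
  · exact Or.inr (Or.inl (by rw [← e, neg_neg]))
  · exact Or.inr (Or.inr (by rwa [(hn u v).2, neg_eq_zero] at e))
  · exact Or.inl (neg_injective e)
  · exact Or.inr (Or.inr (by rwa [(hn u (-v)).2, (hn u v).1, neg_neg] at e))

end General

section Flip

variable {L : Type u} [Group L] [Fintype L] {G : Type v} [Group G] [Fintype G]

/-- An isometry on two characters of one degree may be exchanged for its negative twist. -/
theorem flip_isometry {x x' : L → ℂ} (hx : Cfsg.IsIrrCharacter L x) (hx' : Cfsg.IsIrrCharacter L x')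
    (hne : x ≠ x') (hdeg : x 1 = x' 1) {σ : (L → ℂ) → (G → ℂ)}
    (hσ : Cfsg.IsLinearIsometryOn (Cfsg.zspan {x, x'}) σ) :
    ∃ σ' : (L → ℂ) → (G → ℂ), Cfsg.IsLinearIsometryOn (Cfsg.zspan {x, x'}) σ' ∧
      (∀ α ∈ Cfsg.zspanOn {x, x'} ({1}ᶜ : Set L), σ' α = σ α) ∧ σ' x = -σ x' ∧ σ' x' = -σ x := by
  have hx0 : x 1 ≠ 0 := CfsgLib.Char.irr_apply_one_ne_zero hx
  have hm : x ∈ Cfsg.zspan ({x, x'} : Set (L → ℂ)) := mem_zspan_of_mem (Set.mem_insert _ _)
  have hm' : x' ∈ Cfsg.zspan ({x, x'} : Set (L → ℂ)) := mem_zspan_of_mem (Or.inr rfl)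
  set σ' : (L → ℂ) → (G → ℂ) := fun f => σ f - (f 1 / x 1) • (σ x + σ x') with hσ'
  have hlin : ∀ a b : ℤ, σ' (a • x + b • x') = -(b • σ x) - a • σ x' := by
    intro a b
    show σ (a • x + b • x') - ((a • x + b • x') 1 / x 1) • (σ x + σ x') = _
    rw [hσ.1 _ (Submodule.smul_mem _ _ hm) _ (Submodule.smul_mem _ _ hm'), hσ.2.1 _ hm, hσ.2.1 _ hm']
    have e : (a • x + b • x') 1 / x 1 = ((a + b : ℤ) : ℂ) := by
      simp [← hdeg]; field_simp
    rw [e, Int.cast_smul_eq_zsmul]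
    module
  have hspan : ∀ f ∈ Cfsg.zspan ({x, x'} : Set (L → ℂ)), ∃ a b : ℤ, a • x + b • x' = f :=
    fun f hf => Submodule.mem_span_pair.mp hf
  refine ⟨σ', ⟨?_, ?_, ?_, ?_⟩, ?_, ?_, ?_⟩
  · intro f hf g hg
    simp only [hσ', hσ.1 f hf g hg, Pi.add_apply, add_div, add_smul]
    abel
  · intro f hf n
    show σ (n • f) - ((n • f) 1 / x 1) • (σ x + σ x') = n • (σ f - (f 1 / x 1) • (σ x + σ x'))
    rw [hσ.2.1 f hf n, Pi.smul_apply, zsmul_eq_mul (f 1), mul_div_assoc, ← smul_smul,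
      Int.cast_smul_eq_zsmul, smul_sub]
  · intro f hf g hg
    obtain ⟨a, b, rfl⟩ := hspan f hf
    obtain ⟨c, d, rfl⟩ := hspan g hg
    have h1 := hσ.2.2.1 _ hm _ hm
    have h2 := hσ.2.2.1 _ hm' _ hm'
    have h3 := hσ.2.2.1 _ hm _ hm'
    have h4 := hσ.2.2.1 _ hm' _ hm
    rw [hlin, hlin]
    simp only [sub_eq_add_neg, ← neg_smul, CfsgLib.Char.classInner_add_left,
      CfsgLib.Char.classInner_add_right, classInner_zsmul_left, classInner_zsmul_right,
      h1, h2, h3, h4, CfsgLib.Char.irr_classInner_self hx, CfsgLib.Char.irr_classInner_self hx',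
      CfsgLib.Char.irr_classInner_ne hx hx' hne, CfsgLib.Char.irr_classInner_ne hx' hx hne.symm]
    push_cast
    ring
  · intro f hf
    obtain ⟨a, b, rfl⟩ := hspan f hf
    rw [hlin, sub_eq_add_neg, ← neg_smul, ← neg_smul, ← Int.cast_smul_eq_zsmul ℂ (-b),
      ← Int.cast_smul_eq_zsmul ℂ (-a)]
    exact CfsgLib.Char.isGeneralized_add (CfsgLib.Char.isGeneralized_zsmul (hσ.2.2.2 _ hm) _)
      (CfsgLib.Char.isGeneralized_zsmul (hσ.2.2.2 _ hm') _)
  · intro f hf
    simp [hσ', hf.2 1 (by simp)]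
  · simpa using hlin 1 0
  · simpa using hlin 0 1

end Flip

section TI

variable {G : Type v} [Group G] [Fintype G] {L : Subgroup G} [Fintype L]

/-- Induction from `L` is an isometry on the combinations of the characters induced from a normal
TI subgroup that vanish at the identity. -/
theorem indFun_isometry (H₀ : Subgroup G) [(H₀.subgroupOf L).Normal] [Fintype (H₀.subgroupOf L)]
    (hTI : ∀ g : G, g ∉ L → ∀ h ∈ H₀, g * h * g⁻¹ ∈ H₀ → h = 1) :
    Cfsg.IsLinearIsometryOn (Cfsg.zspanOn (Cfsg.inducedIrrAbove (H₀.subgroupOf L) ⊥) {1}ᶜ)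
        (fun α : L → ℂ => Cfsg.indFun L α) ∧
      ∀ α ∈ Cfsg.zspanOn (Cfsg.inducedIrrAbove (H₀.subgroupOf L) ⊥) ({1}ᶜ : Set L),
        Cfsg.indFun L α 1 = 0 := by
  have hsupp : ∀ α ∈ Cfsg.zspanOn (Cfsg.inducedIrrAbove (H₀.subgroupOf L) ⊥) ({1}ᶜ : Set L),
      ∀ x : L, α x ≠ 0 → (x : G) ∈ {v : G | v ∈ H₀ ∧ v ≠ 1} := fun α hα x hx =>
    ⟨by_contra fun h => hx ((zspan_induced _ hα.1).2.2 x fun hm => h (Subgroup.mem_subgroupOf.mp hm)),
      fun h => hx (by rw [show x = 1 from Subtype.ext h]; exact hα.2 1 (by simp))⟩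
  refine ⟨⟨fun α _ β _ => CfsgLib.Char.indFun_add L α β, fun α _ n => ?_, fun α hα β hβ => ?_,
    fun α hα => CfsgLib.Char.isGeneralized_indFun L (zspan_induced _ hα.1).2.1⟩, fun α hα => ?_⟩
  · show Cfsg.indFun L (n • α) = n • Cfsg.indFun L α
    rw [← Int.cast_smul_eq_zsmul ℂ, CfsgLib.Char.indFun_smul, Int.cast_smul_eq_zsmul]
  · refine CfsgLib.Clifford.classInner_indFun_of_TI (fun g v hv hgv => ?_) α (zspan_induced _ hβ.1).1
      (hsupp α hα) (hsupp β hβ)
    by_contra hg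
    exact hv.2 (hTI g hg v hv.1 hgv.1)
  · rw [CfsgLib.Char.indFun_apply_one, hα.2 1 (by simp), mul_zero]

end TI

end CfsgLib.Coherent
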