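import Cfsg.Agent.S1523
import Cfsg.Agent.S1531
import Cfsg.Agent.Lib.Coherent.FeitCoherence
import Cfsg.Agent.Lib.Coherent.CentralPGroup
import Cfsg.Agent.Lib.Coherent.TIKernel
import Cfsg.Agent.Lib.Char.Fixed
import Cfsg.Agent.Lib.Solvable.Nilpotent

/-!
# Sibley's theorem: a non-abelian Sylow subgroup as the kernel of a TI Frobenius normaliser
-/

set_option autoImplicit false
set_option linter.unusedSectionVars false

namespace CfsgLib.Coherent

open CfsgLib.Clifford.Coh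
open scoped commutatorElement ComplexConjugate

universe v

variable {G : Type v} [Group G] [Fintype G] {p : ℕ} [hp : Fact p.Prime]

/-- A character of `G` proportional to the degrees on the characters not constant on `Z` has its
coefficients divisible by the degree ratio. -/
theorem congruence_coeff (P : Sylow p G) (hTI : Cfsg.IsTISubset ((P : Subgroup G) : Set G))
    (L : Subgroup G) [Fintype L] (hL : Subgroup.normalizer ((P : Subgroup G) : Set G) = L)
    (hodd : Odd (Nat.card L))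
    (hC : ∀ h ∈ (P : Subgroup G).subgroupOf L, h ≠ 1 →
      Subgroup.centralizer ({h} : Set L) ≤ (P : Subgroup G).subgroupOf L)
    (Z : Subgroup L) [hZn : Z.Normal] (hZ1 : Z ≠ ⊥) (hZP : Z ≤ (P : Subgroup G).subgroupOf L)
    (hZc : ∀ z ∈ Z, ∀ k ∈ (P : Subgroup G).subgroupOf L, z * k = k * z)
    (X : Finset (L → ℂ)) (hX : ↑X = {χ : L → ℂ | Cfsg.IsIrrCharacter L χ ∧ ∃ z ∈ Z, χ z ≠ χ 1})
    {x : L → ℂ} (hx : x ∈ X) {n : ℕ}
    (hn : x 1 = (((P : Subgroup G).subgroupOf L).index * n : ℕ)) {ψ : G → ℂ}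
    (hψ : Cfsg.IsIrrCharacter G ψ)
    (hprop : ∀ φ ∈ X, Cfsg.classInner (fun g : L => ψ g) φ * x 1 =
      φ 1 * Cfsg.classInner (fun g : L => ψ g) x) :
    ∃ k : ℤ, Cfsg.classInner (fun g : L => ψ g) x = (n : ℂ) * k := by
  classical
  have := Fintype.ofFinite (Cfsg.IrrCharacter L)
  set H := (P : Subgroup G).subgroupOf L with hH
  set ψr : L → ℂ := fun g => ψ g with hψr
  have hmemX : ∀ φ, φ ∈ X ↔ Cfsg.IsIrrCharacter L φ ∧ ∃ z ∈ Z, φ z ≠ φ 1 := fun φ => by
    rw [← Finset.mem_coe, hX]; rfl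
  have hx1 : x 1 ≠ 0 := CfsgLib.Char.irr_apply_one_ne_zero ((hmemX x).mp hx).1
  set c := Cfsg.classInner ψr x with hc
  have hcl : Cfsg.IsClassFunction L ψr := CfsgLib.Char.isCharacter_isClassFunction
    (CfsgLib.Char.isCharacter_restrict (CfsgLib.Char.irr_isCharacter hψ) L)
  -- the drop from the identity
  have hdrop : ∀ z ∈ Z, z ≠ 1 → (ψr 1 - ψr z) * x 1 = c * Nat.card L := by
    intro z hz hz1
    have hcol1 := CfsgLib.Char.column_orthogonality (G := L) 1 1
    have hcolz := CfsgLib.Char.column_orthogonality (G := L) z 1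
    have hcardL : (Nat.card (Subgroup.centralizer ({(1 : L)} : Set L)) : ℂ) = Nat.card L := by
      congr 1
      rw [show Subgroup.centralizer ({(1 : L)} : Set L) = ⊤ from eq_top_iff.mpr fun g _ =>
        Subgroup.mem_centralizer_singleton_iff.mpr (by simp)]
      exact Nat.card_congr Subgroup.topEquiv.toEquiv
    rw [if_pos (IsConj.refl _), hcardL] at hcol1
    rw [if_neg (fun h => hz1 (isConj_one_left.mp h))] at hcolz
    rw [CfsgLib.Char.classFunction_apply_eq_sum hcl 1, CfsgLib.Char.classFunction_apply_eq_sum hcl z,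
      ← Finset.sum_sub_distrib, Finset.sum_mul, ← sub_zero (Nat.card L : ℂ), ← hcol1, ← hcolz,
      ← Finset.sum_sub_distrib, Finset.mul_sum]
    refine Finset.sum_congr rfl fun φ _ => ?_
    obtain ⟨d, -, hd⟩ := CfsgLib.Char.irr_apply_one_pos φ.2
    rw [hd, map_natCast, ← mul_sub]
    by_cases hφ : (φ : L → ℂ) ∈ X
    · have h := hprop _ hφ
      rw [hd] at h
      linear_combination ((d : ℂ) - (φ : L → ℂ) z) * h
    · have h0 : (φ : L → ℂ) z = d := hd ▸ by_contra fun h => hφ ((hmemX _).mpr ⟨φ.2, z, hz, h⟩)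
      rw [h0]; ring
  -- constancy, and the congruence in `G`
  have hPL : (P : Subgroup G) ≤ L := hL ▸ Subgroup.le_normalizer
  obtain ⟨⟨z, hz⟩, hz1'⟩ := Subgroup.ne_bot_iff_exists_ne_one.mp hZ1
  have hz1 : z ≠ 1 := fun h => hz1' (Subtype.ext h)
  have hval : ∀ w ∈ Z, w ≠ 1 → ψ w = ψ z := fun w hw hw1 => by
    have h := (hdrop w hw hw1).trans (hdrop z hz hz1).symm
    exact sub_right_injective (mul_right_cancel₀ hx1 h)
  have hC' : ∀ w ∈ Z.map L.subtype, w ≠ 1 →
      L ⊓ Subgroup.centralizer ({w} : Set G) = (P : Subgroup G) := by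
    rintro _ ⟨w, hw, rfl⟩ hw1
    refine le_antisymm (fun g hg => ?_) (fun g hg => ⟨hPL hg, ?_⟩)
    · have h := hC w (hZP hw) (fun h => hw1 (by rw [h]; rfl))
        (Subgroup.mem_centralizer_singleton_iff.mpr (Subtype.ext
          (Subgroup.mem_centralizer_singleton_iff.mp hg.2)) : (⟨g, hg.1⟩ : L) ∈ _)
      exact h
    · exact Subgroup.mem_centralizer_singleton_iff.mpr
        (congrArg Subtype.val (hZc w hw ⟨g, hPL hg⟩ hg)).symm
  obtain ⟨m, d, hm, hd, hdvd⟩ := Cfsg.Agent.S1523.result p P hTI (by rw [hL]; exact hodd)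
    (Z.map L.subtype)
    (fun h => hZ1 ((Subgroup.map_eq_bot_iff_of_injective _ L.subtype_injective).mp h))
    (by rintro _ ⟨w, hw, rfl⟩; exact hZP hw)
    (by
      rw [hL]
      rintro g hg _ ⟨w, hw, rfl⟩
      exact ⟨_, hZn.conj_mem w hw ⟨g, hg⟩, rfl⟩)
    (by
      rintro _ ⟨w, hw, rfl⟩ y hy
      exact congrArg Subtype.val (hZc w hw ⟨y, hPL hy⟩ hy))
    (fun a ha b hb ha1 hb1 => by rw [hL, hC' a ha ha1, hC' b hb hb1]) ψ hψ
    (by
      rintro _ ⟨a, ha, rfl⟩ _ ⟨b, hb, rfl⟩ ha1 hb1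
      exact (hval a ha fun h => ha1 (by rw [h]; rfl)).trans
        (hval b hb fun h => hb1 (by rw [h]; rfl)).symm)
    z ⟨z, hz, rfl⟩ (fun h => hz1 (Subtype.ext h))
  obtain ⟨k, hk⟩ := hdvd
  refine ⟨k, ?_⟩
  have h := hdrop z hz hz1
  have hcard : Nat.card L = H.index * Nat.card (P : Subgroup G) := by
    rw [← H.index_mul_card, hH, Nat.card_congr (Subgroup.subgroupOfEquivOfLe hPL).toEquiv]
  simp only [hψr, Subgroup.coe_one] at h
  rw [hd, hm, hn, hcard, ← Int.cast_sub, hk] at h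
  push_cast at h
  have he : (H.index : ℂ) ≠ 0 := Nat.cast_ne_zero.mpr Subgroup.index_ne_zero_of_finite
  have hP : (Nat.card (P : Subgroup G) : ℂ) ≠ 0 := Nat.cast_ne_zero.mpr Nat.card_pos.ne'
  refine mul_left_cancel₀ (mul_ne_zero he hP) ?_
  linear_combination -h

set_option maxHeartbeats 1000000 in
/-- **Sibley**: for a non-abelian Sylow `p`-subgroup, `p` odd, all the characters of the normaliser
not trivial on it are coherent. -/
theorem coherent_sylow_join (P : Sylow p G) (hTI : Cfsg.IsTISubset ((P : Subgroup G) : Set G))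
    (L : Subgroup G) [Fintype L] (hL : Subgroup.normalizer ((P : Subgroup G) : Set G) = L)
    [((P : Subgroup G).subgroupOf L).Normal] [Fintype ((P : Subgroup G).subgroupOf L)]
    (hp2 : p ≠ 2) (hodd : Odd (Nat.card L)) (hne : (P : Subgroup G).subgroupOf L ≠ ⊤)
    (hC : ∀ h ∈ (P : Subgroup G).subgroupOf L, h ≠ 1 →
      Subgroup.centralizer ({h} : Set L) ≤ (P : Subgroup G).subgroupOf L)
    (hna : ⁅(P : Subgroup G).subgroupOf L, (P : Subgroup G).subgroupOf L⁆ ≠ ⊥) :
    Cfsg.IsCoherent (Cfsg.inducedIrrAbove ((P : Subgroup G).subgroupOf L) ⊥) {1}ᶜ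
      (fun α : L → ℂ => Cfsg.indFun L α) := by
  classical
  set H := (P : Subgroup G).subgroupOf L with hH
  set τ : (L → ℂ) → (G → ℂ) := fun α => Cfsg.indFun L α with hτdef
  have hPL : (P : Subgroup G) ≤ L := hL ▸ Subgroup.le_normalizer
  obtain ⟨hτ, hτ1⟩ : Cfsg.IsLinearIsometryOn (Cfsg.zspanOn (Cfsg.inducedIrrAbove H ⊥) {1}ᶜ) τ ∧
      ∀ α ∈ Cfsg.zspanOn (Cfsg.inducedIrrAbove H ⊥) ({1}ᶜ : Set L), τ α 1 = 0 :=
    indFun_isometry (P : Subgroup G) fun g hg h hh hgh => hTI g (hL ▸ hg) h hh hgh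
  have hH1 : H ≠ ⊥ := fun h => hna (by rw [h, Subgroup.commutator_bot_left])
  have hnil := frobenius_kernel_nilpotent hC hne
  have hHp : IsPGroup p H := P.2.comap_of_injective L.subtype L.subtype_injective
  have hoH : Odd (Nat.card H) := hodd.of_dvd_nat (Subgroup.card_subgroup_dvd_card H)
  have hoe : Odd H.index := hodd.of_dvd_nat H.index_dvd_card
  have hcop : p.Coprime H.index := by
    obtain ⟨k, hk⟩ := IsPGroup.iff_card.mp hHp
    have hd := index_dvd_card_sub_one hC (A := H) le_rfl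
    have hk0 : k ≠ 0 := fun h => hH1 (Subgroup.card_eq_one.mp (by rw [hk, h, pow_zero]))
    rw [hp.out.coprime_iff_not_dvd]
    intro hdvd
    rw [hk] at hd
    have h1 : p ∣ p ^ k - (p ^ k - 1) := Nat.dvd_sub (dvd_pow_self p hk0) (hdvd.trans hd)
    rw [Nat.sub_sub_self (Nat.one_le_pow _ _ hp.out.pos)] at h1
    exact hp.out.ne_one (Nat.dvd_one.mp h1)
  -- the central subgroup inside the derived group
  set Z := ⁅H, H⁆ ⊓ Subgroup.centralizer (H : Set L) with hZdef
  have hZn : Z.Normal := inferInstance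
  have hZd : Z ≤ ⁅H, H⁆ := inf_le_left
  have hZH : Z ≤ H := hZd.trans (Subgroup.commutator_le_self H)
  have hZc : ∀ z ∈ Z, ∀ k ∈ H, z * k = k * z := fun z hz k hk =>
    (Subgroup.mem_centralizer_iff.mp hz.2 k hk).symm
  have hZ1 : Z ≠ ⊥ := by
    intro h
    have := hnil
    have hne' : ⁅H, H⁆.subgroupOf H ≠ ⊥ := fun h' => hna (by
      rw [← Subgroup.map_subgroupOf_eq_of_le (Subgroup.commutator_le_self H), h', Subgroup.map_bot])
    refine Solvable.normal_inf_center_ne_bot (⁅H, H⁆.subgroupOf H) hne' ((Subgroup.eq_bot_iff_forall _).mpr ?_)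
    intro w hw
    have hw' : (w : L) ∈ Z := ⟨hw.1, Subgroup.mem_centralizer_iff.mpr fun k hk =>
      congrArg Subtype.val (Subgroup.mem_center_iff.mp hw.2 ⟨k, hk⟩)⟩
    rw [h, Subgroup.mem_bot] at hw'
    exact Subtype.ext hw'
  have hZcard : 2 * H.index + 1 ≤ Nat.card Z := two_mul_index_le hoe
    (hodd.of_dvd_nat (Subgroup.card_subgroup_dvd_card Z))
    (fun h => hZ1 (Subgroup.card_eq_one.mp h)) (index_dvd_card_sub_one hC hZH)
  have hirrS : ∀ χ ∈ Cfsg.inducedIrrAbove H ⊥, Cfsg.IsIrrCharacter L χ := fun χ h => frobenius_irr hC h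
  have hreal : ∀ χ ∈ Cfsg.inducedIrrAbove H ⊥, Cfsg.conjFun χ ≠ χ := by
    intro χ hχ h
    have e := CfsgLib.Char.eq_one_of_real_odd hodd (hirrS χ hχ) fun g =>
      Complex.conj_eq_iff_im.mp (congr_fun h g)
    obtain ⟨-, g, hg, hne'⟩ : χ ∈ {χ : L → ℂ | Cfsg.IsIrrCharacter L χ ∧ ∃ h ∈ H, χ h ≠ χ 1} := by
      rw [frobenius_setOf_eq hC]; exact hχ
    exact hne' (by rw [e])
  -- the two coherent sets
  set W₀ := Cfsg.inducedIrrAbove H ⊥ \ Cfsg.inducedIrrAbove H Z with hW₀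
  have hsubX : W₀ ⊆ Cfsg.inducedIrrAbove H ⊥ := Set.sdiff_subset
  obtain ⟨-, σ, hσ, hσα⟩ := coherent_central_diff H hp2 hHp hcop Z hZ1 hZH hZc
    (fun χ h => hirrS χ (hsubX h)) (fun χ h => hreal χ (hsubX h)) τ
    (isometry_mono (zspanOn_mono hsubX) hτ) (fun α hα => hτ1 α (zspanOn_mono hsubX hα))
  have hXset := diff_eq_setOf H hZH fun χ h => hirrS χ (hsubX h)
  obtain ⟨X, hX⟩ := ((inducedIrrAbove_finite H ⊥).subset hsubX).exists_finset_coe
  have hmX : ∀ φ, φ ∈ X ↔ φ ∈ W₀ := fun φ => by rw [← hX]; rfl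
  have hderlt := derived_lt hnil hH1
  have hhne : ⁅H, H⁆.relIndex H ≠ H.index + 1 := fun h => by
    have : Odd (⁅H, H⁆.relIndex H) := hoH.of_dvd_nat (⁅H, H⁆.subgroupOf H).index_dvd_card
    rw [h] at this
    exact Nat.not_even_iff_odd.mpr this hoe.add_one
  obtain ⟨-, t, ht, htα⟩ := coherent_derived hC hnil hH1 hhne τ hτ hτ1
  set Y := Cfsg.inducedIrrAbove H ⁅H, H⁆ with hY
  have hYS : Y ⊆ Cfsg.inducedIrrAbove H ⊥ := inducedIrrAbove_mono H bot_le
  have hdisj : Disjoint W₀ Y := Set.disjoint_left.mpr fun φ h h' =>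
    h.2 (inducedIrrAbove_mono H hZd h')
  have hsumS : ∀ (A : Subgroup L) [A.Normal] (s : Finset (L → ℂ)),
      ↑s = Cfsg.inducedIrrAbove H A → ∀ d : (L → ℂ) → ℕ,
      (∀ χ ∈ s, χ 1 = (d χ : ℂ)) → ∑ χ ∈ s, d χ ^ 2 = H.index * (A.relIndex H - 1) :=
    fun A _ s hs d hd => frobenius_sum_sq hC s hs d hd
  choose! d hd0 hd using fun χ (h : χ ∈ Cfsg.inducedIrrAbove H (⊥ : Subgroup L)) =>
    CfsgLib.Char.irr_apply_one_pos (hirrS χ h)
  have he0 : 0 < H.index := Nat.pos_of_ne_zero Subgroup.index_ne_zero_of_finite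
  have hm : Z.relIndex H * Nat.card Z = Nat.card H := by
    rw [← Nat.card_congr (Subgroup.subgroupOfEquivOfLe hZH).toEquiv]
    exact Subgroup.index_mul_card (Z.subgroupOf H)
  have hsumX : ∑ χ ∈ X, d χ ^ 2 = H.index * (Z.relIndex H * (Nat.card Z - 1)) := by
    obtain ⟨s, hs⟩ := (inducedIrrAbove_finite H (⊥ : Subgroup L)).exists_finset_coe
    obtain ⟨sZ, hsZ⟩ := (inducedIrrAbove_finite H Z).exists_finset_coe
    have hms : ∀ x, x ∈ s ↔ x ∈ Cfsg.inducedIrrAbove H ⊥ := fun x => by rw [← hs]; rfl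
    have hmZ : ∀ x, x ∈ sZ ↔ x ∈ Cfsg.inducedIrrAbove H Z := fun x => by rw [← hsZ]; rfl
    have e1 : sZ ⊆ s := fun x hx => (hms x).mpr (inducedIrrAbove_mono H bot_le ((hmZ x).mp hx))
    have e2 : s \ sZ = X := by ext x; simp [hms, hmZ, hmX, hW₀]
    have h1 := hsumS ⊥ s hs d fun x hx => hd x ((hms x).mp hx)
    rw [← Finset.sum_sdiff e1, e2, hsumS Z sZ hsZ d fun x hx =>
      hd x (inducedIrrAbove_mono H bot_le ((hmZ x).mp hx)), Subgroup.relIndex_bot_left, ← hm] at h1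
    have hr : 1 ≤ Z.relIndex H := Nat.pos_of_ne_zero Subgroup.index_ne_zero_of_finite
    have hz : 1 ≤ Nat.card Z := Nat.card_pos
    have hrz : 1 ≤ Z.relIndex H * Nat.card Z := Nat.one_le_iff_ne_zero.mpr (by positivity)
    zify [hr, hz, hrz] at h1 ⊢
    linear_combination h1
  obtain ⟨x, hxX⟩ : X.Nonempty := by
    rw [Finset.nonempty_iff_ne_empty]
    intro h
    rw [h, Finset.sum_empty, eq_comm, mul_eq_zero, mul_eq_zero] at hsumX
    rcases hsumX with h | h | h
    · omega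
    · exact Subgroup.index_ne_zero_of_finite h
    · omega
  have hxW := (hmX x).mp hxX
  have hxc : Cfsg.conjFun x ∈ W₀ := ⟨inducedIrrAbove_conj H ⊥ hxW.1, fun h => hxW.2 (by
    simpa [conjFun_conjFun] using inducedIrrAbove_conj H Z h)⟩
  have hX2 : ∃ a ∈ W₀, ∃ b ∈ W₀, a ≠ b := ⟨_, hxc, x, hxW, hreal x hxW.1⟩
  -- its degree
  obtain ⟨n, hn2, hn⟩ : ∃ n : ℕ, 2 ≤ n ∧ x 1 = ((H.index * n : ℕ) : ℂ) := by
    obtain ⟨⟨θ, hθ, h1, -, rfl⟩, hnot⟩ := hxW
    obtain ⟨n, hn0, hn⟩ := CfsgLib.Char.irr_apply_one_pos hθ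
    refine ⟨n, ?_, degree_eq H hn⟩
    by_contra hlt
    have hn1 : n = 1 := by omega
    rw [hn1, Nat.cast_one] at hn
    obtain ⟨lam, hlam⟩ := CfsgLib.Char.exists_hom_of_degree_one (CfsgLib.Char.irr_isCharacter hθ) hn
    apply hnot
    rw [mem_inducedIrrAbove_iff H hθ h1]
    intro a ha
    have : a ∈ commutator H := by
      rw [← commutator_subgroupOf]; exact Subgroup.mem_subgroupOf.mpr (hZd ha)
    have : lam a = 1 := Abelianization.commutator_subset_ker lam this
    simp [hlam, this]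
  obtain ⟨y, hy⟩ : Y.Nonempty := by
    obtain ⟨θ, hθ, h1, -, hA⟩ := exists_linear_above H (A := ⁅H, H⁆)
      (by have := hnil; infer_instance) hderlt
    exact ⟨_, θ, hθ, h1, hA, rfl⟩
  have hy1 : y 1 = (H.index : ℂ) := degree_of_above_derived hy
  have hY2 : ∃ a ∈ Y, ∃ b ∈ Y, a ≠ b := by
    refine ⟨_, inducedIrrAbove_conj H ⁅H, H⁆ hy, y, hy, ?_⟩
    exact hreal y (hYS hy)
  -- the map applied to the cross combination
  have hxS := hxW.1
  have hyS := hYS hy
  have hin : ∀ {S : Set (L → ℂ)} {f}, f ∈ S → f ∈ Cfsg.zspan S := fun h => mem_zspan_of_mem h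
  have hcross : x - (n : ℤ) • y ∈ Cfsg.zspanOn (Cfsg.inducedIrrAbove H ⊥) ({1}ᶜ : Set L) :=
    mem_zspanOn_compl.mpr ⟨Submodule.sub_mem _ (hin hxS) (Submodule.smul_mem _ _ (hin hyS)), by
      simp [hn, hy1, mul_comm]⟩
  set Φ := τ (x - (n : ℤ) • y) with hΦ
  have hΦgen : Cfsg.IsGeneralizedCharacter G Φ := hτ.2.2.2 _ hcross
  have hself : ∀ f ∈ Cfsg.inducedIrrAbove H ⊥, Cfsg.classInner f f = 1 := fun f h =>
    CfsgLib.Char.irr_classInner_self (hirrS f h)
  have horth : ∀ f ∈ Cfsg.inducedIrrAbove H ⊥, ∀ g ∈ Cfsg.inducedIrrAbove H ⊥, f ≠ g →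
      Cfsg.classInner f g = 0 := fun f hf g hg h =>
    CfsgLib.Char.irr_classInner_ne (hirrS f hf) (hirrS g hg) h
  have hxy : x ≠ y := fun h => Set.disjoint_left.mp hdisj hxW (h ▸ hy)
  have hΦnorm : Cfsg.classInner Φ Φ = 1 + (n : ℂ) ^ 2 := by
    rw [hΦ, hτ.2.2.1 _ hcross _ hcross]
    simp only [CfsgLib.Char.classInner_sub_left, CfsgLib.Char.classInner_sub_right,
      classInner_zsmul_left, classInner_zsmul_right, hself x hxS, hself y hyS,
      horth x hxS y hyS hxy, horth y hyS x hxS hxy.symm]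
    push_cast
    ring
  have hσin : ∀ φ ∈ X, φ ∈ Cfsg.zspan W₀ := fun φ h => hin ((hmX φ).mp h)
  have hσgen : ∀ φ ∈ X, Cfsg.IsGeneralizedCharacter G (σ φ) := fun φ h => hσ.2.2.2 _ (hσin φ h)
  have hσσ : ∀ φ ∈ X, ∀ φ' ∈ X, Cfsg.classInner (σ φ) (σ φ') = if φ = φ' then 1 else 0 := by
    intro φ h φ' h'
    rw [hσ.2.2.1 _ (hσin φ h) _ (hσin φ' h')]
    split_ifs with e
    · subst e; exact hself φ (hsubX ((hmX φ).mp h))
    · exact horth φ (hsubX ((hmX φ).mp h)) φ' (hsubX ((hmX φ').mp h')) e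
  choose! c hc using fun φ (h : φ ∈ X) =>
    CfsgLib.Char.classInner_isGeneralized_int hΦgen (hσgen φ h)
  set Φ' := Φ - ∑ φ ∈ X, (c φ : ℂ) • σ φ with hΦ'
  have hΦ'σ : ∀ φ ∈ X, Cfsg.classInner Φ' (σ φ) = 0 := fun φ h => by
    rw [hΦ', CfsgLib.Char.classInner_sub_left, CfsgLib.Char.classInner_sum_left, hc φ h,
      Finset.sum_eq_single φ (fun φ' h' e => by
        rw [CfsgLib.Char.classInner_smul_left, hσσ φ' h' φ h, if_neg e, mul_zero])
        (fun h' => absurd h h'), CfsgLib.Char.classInner_smul_left, hσσ φ h φ h, if_pos rfl, mul_one,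
      sub_self]
  have hdegX : ∀ φ ∈ X, (d x : ℤ) • φ - (d φ : ℤ) • x ∈ Cfsg.zspanOn W₀ ({1}ᶜ : Set L) :=
    fun φ hφ => mem_zspanOn_compl.mpr ⟨Submodule.sub_mem _ (Submodule.smul_mem _ _ (hσin φ hφ))
      (Submodule.smul_mem _ _ (hσin x hxX)), by
        simp [hd x hxS, hd φ (hsubX ((hmX φ).mp hφ)), mul_comm]⟩
  have hdvd : ∀ ψ : Cfsg.IrrCharacter G, ∃ k : ℤ, Cfsg.classInner Φ' (ψ : G → ℂ) = (n : ℂ) * k := by
    intro ψ
    have hψgen := CfsgLib.Char.isGeneralized_of_isCharacter (CfsgLib.Char.irr_isCharacter ψ.2)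
    by_cases hex : ∃ φ ∈ X, Cfsg.classInner (σ φ) (ψ : G → ℂ) ≠ 0
    · obtain ⟨φ, hφ, hne'⟩ := hex
      refine ⟨0, ?_⟩
      have h0 := hΦ'σ φ hφ
      rcases norm_one_cases (hσgen φ hφ) hψgen (by rw [hσσ φ hφ φ hφ, if_pos rfl])
        (CfsgLib.Char.irr_classInner_self ψ.2) with e | e | e
      · rw [← e, h0]; simp
      · rw [e, show -(ψ : G → ℂ) = (-1 : ℂ) • (ψ : G → ℂ) by simp,
          CfsgLib.Char.classInner_smul_right, mul_eq_zero] at h0
        rw [h0.resolve_left (by simp)]; simp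
      · exact absurd e hne'
    · push Not at hex
      have hψcl := CfsgLib.Char.irr_isClassFunction ψ.2
      have hrec : ∀ f : L → ℂ, Cfsg.classInner (τ f) (ψ : G → ℂ) =
          Cfsg.classInner f (fun g : L => (ψ : G → ℂ) g) := fun f =>
        CfsgLib.Char.frobenius_reciprocity L f _ hψcl
      have hψr := CfsgLib.Char.isCharacter_restrict (CfsgLib.Char.irr_isCharacter ψ.2) L
      choose! a ha using fun φ (h : φ ∈ Cfsg.inducedIrrAbove H (⊥ : Subgroup L)) =>
        CfsgLib.Char.classInner_isCharacter_nat hψr (CfsgLib.Char.irr_isCharacter (hirrS φ h))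
      have ha' : ∀ φ ∈ Cfsg.inducedIrrAbove H (⊥ : Subgroup L),
          Cfsg.classInner φ (fun g : L => (ψ : G → ℂ) g) = (a φ : ℂ) := fun φ h => by
        rw [← CfsgLib.Char.classInner_conj_symm, ha φ h, map_natCast]
      obtain ⟨k, hk⟩ := congruence_coeff P hTI L hL hodd hC Z hZ1 hZH hZc X (hX.trans hXset) hxX hn
        ψ.2 (fun φ hφ => by
          have hm := hdegX φ hφ
          have h := hrec ((d x : ℤ) • φ - (d φ : ℤ) • x)
          rw [← hσα _ hm, iso_zspan_sub hσ (Submodule.smul_mem _ _ (hσin φ hφ))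
            (Submodule.smul_mem _ _ (hσin x hxX)), hσ.2.1 _ (hσin φ hφ),
            hσ.2.1 _ (hσin x hxX)] at h
          simp only [CfsgLib.Char.classInner_sub_left, classInner_zsmul_left, hex φ hφ, hex x hxX,
            ha' φ (hsubX ((hmX φ).mp hφ)), ha' x hxS, mul_zero, sub_zero] at h
          rw [ha φ (hsubX ((hmX φ).mp hφ)), ha x hxS, hd x hxS, hd φ (hsubX ((hmX φ).mp hφ))]
          push_cast at h
          linear_combination -h)
      refine ⟨k - a y, ?_⟩
      rw [hΦ', CfsgLib.Char.classInner_sub_left, CfsgLib.Char.classInner_sum_left,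
        Finset.sum_eq_zero fun φ h => by rw [CfsgLib.Char.classInner_smul_left, hex φ h, mul_zero],
        sub_zero, hΦ, hrec, CfsgLib.Char.classInner_sub_left, classInner_zsmul_left, ha' x hxS,
        ha' y hyS, ← ha x hxS, hk]
      push_cast
      ring
  have := Fintype.ofFinite (Cfsg.IrrCharacter G)
  choose k hk using hdvd
  set W : G → ℂ := ∑ ψ : Cfsg.IrrCharacter G, (k ψ : ℂ) • (ψ : G → ℂ) with hW
  have hWgen : Cfsg.IsGeneralizedCharacter G W := CfsgLib.Char.isGeneralized_sum _ fun ψ _ =>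
    CfsgLib.Char.isGeneralized_zsmul
      (CfsgLib.Char.isGeneralized_of_isCharacter (CfsgLib.Char.irr_isCharacter ψ.2)) _
  have hn0 : (n : ℂ) ≠ 0 := Nat.cast_ne_zero.mpr (by omega)
  have hΦ'W : Φ' = (n : ℂ) • W := by
    have hcl : Cfsg.IsClassFunction G Φ' := CfsgLib.Char.isGeneralized_isClassFunction
      (CfsgLib.Char.isGeneralized_sub hΦgen (CfsgLib.Char.isGeneralized_sum _ fun φ h =>
        CfsgLib.Char.isGeneralized_zsmul (hσgen φ h) _))
    rw [CfsgLib.Char.classFunction_eq_sum hcl, hW, Finset.smul_sum]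
    simp only [hk, smul_smul]
  have hWψ : ∀ ψ : Cfsg.IrrCharacter G, Cfsg.classInner W (ψ : G → ℂ) = k ψ := fun ψ => by
    have h := hk ψ
    rw [hΦ'W, CfsgLib.Char.classInner_smul_left] at h
    exact mul_left_cancel₀ hn0 h
  obtain ⟨w, hw⟩ : ∃ w, w = ∑ ψ, k ψ ^ 2 := ⟨_, rfl⟩
  have hWW : Cfsg.classInner W W = (w : ℂ) := by
    nth_rewrite 1 [hW]
    rw [CfsgLib.Char.classInner_sum_left, hw, Int.cast_sum]
    refine Finset.sum_congr rfl fun ψ _ => ?_
    rw [CfsgLib.Char.classInner_smul_left, ← CfsgLib.Char.classInner_conj_symm, hWψ, map_intCast]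
    push_cast
    ring
  have hWσ : ∀ φ ∈ X, Cfsg.classInner W (σ φ) = 0 := fun φ h => by
    have h0 := hΦ'σ φ h
    rw [hΦ'W, CfsgLib.Char.classInner_smul_left, mul_eq_zero] at h0
    exact h0.resolve_left hn0
  have hexp : Φ = ∑ φ ∈ X, (c φ : ℂ) • σ φ + (n : ℂ) • W := by
    rw [← hΦ'W, hΦ']; abel
  have hnorm : ∑ φ ∈ X, c φ ^ 2 + (n : ℤ) ^ 2 * w = 1 + (n : ℤ) ^ 2 := by
    have h : Cfsg.classInner Φ Φ = ((∑ φ ∈ X, c φ ^ 2 + (n : ℤ) ^ 2 * w : ℤ) : ℂ) := by
      nth_rewrite 1 [hexp]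
      rw [CfsgLib.Char.classInner_add_left, CfsgLib.Char.classInner_sum_left, Int.cast_add,
        Int.cast_sum]
      congr 1
      · refine Finset.sum_congr rfl fun φ hφ => ?_
        rw [CfsgLib.Char.classInner_smul_left, ← CfsgLib.Char.classInner_conj_symm, hc φ hφ, map_intCast]
        push_cast
        ring
      · rw [CfsgLib.Char.classInner_smul_left, ← CfsgLib.Char.classInner_conj_symm, hexp,
          CfsgLib.Char.classInner_add_left, CfsgLib.Char.classInner_sum_left,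
          Finset.sum_eq_zero fun φ hφ => by
            rw [CfsgLib.Char.classInner_smul_left, ← CfsgLib.Char.classInner_conj_symm, hWσ φ hφ,
              map_zero, mul_zero], zero_add, CfsgLib.Char.classInner_smul_left, hWW]
        simp only [map_mul, map_natCast, map_intCast, Int.cast_mul, Int.cast_pow, Int.cast_natCast]
        ring
    rw [hΦnorm] at h
    exact_mod_cast h.symm
  -- `W` against the images of `Y`
  have htin : ∀ φ ∈ Y, φ ∈ Cfsg.zspan Y := fun φ h => hin h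
  obtain ⟨hpart, -⟩ := Cfsg.Agent.S1531.result L (Cfsg.inducedIrrAbove H ⊥) W₀ Y hirrS hsubX hYS hdisj
    hX2 hY2 τ hτ hτ1 σ t hσ hσα ht htα
  have hWY : ∀ y' ∈ Y, y' ≠ y → Cfsg.classInner W (t y') - Cfsg.classInner W (t y) = 1 := by
    intro y' hy' hne'
    have hm : y' - y ∈ Cfsg.zspanOn Y ({1}ᶜ : Set L) := mem_zspanOn_compl.mpr
      ⟨Submodule.sub_mem _ (hin hy') (hin hy), by
        simp [hy1, degree_of_above_derived (H := H) hy']⟩
    have h : Cfsg.classInner Φ (t y' - t y) = (n : ℂ) := by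
      rw [← iso_zspan_sub ht (hin hy') (hin hy), htα _ hm, hΦ,
        hτ.2.2.1 _ hcross _ (zspanOn_mono hYS hm)]
      have hxy' : x ≠ y' := fun h => Set.disjoint_left.mp hdisj hxW (h ▸ hy')
      simp only [CfsgLib.Char.classInner_sub_left, CfsgLib.Char.classInner_sub_right,
        classInner_zsmul_left, hself y hyS, horth x hxS y hyS hxy,
        horth x hxS y' (hYS hy') hxy', horth y hyS y' (hYS hy') hne'.symm]
      push_cast
      ring
    rw [hexp, CfsgLib.Char.classInner_add_left, CfsgLib.Char.classInner_sum_left,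
      Finset.sum_eq_zero fun φ hφ => by
        rw [CfsgLib.Char.classInner_smul_left, CfsgLib.Char.classInner_sub_right,
          hpart φ ((hmX φ).mp hφ) y' hy', hpart φ ((hmX φ).mp hφ) y hy, sub_zero, mul_zero],
      zero_add, CfsgLib.Char.classInner_smul_left, CfsgLib.Char.classInner_sub_right] at h
    exact mul_left_cancel₀ hn0 (h.trans (mul_one _).symm)
  obtain ⟨y', hy', hne'⟩ : ∃ y' ∈ Y, y' ≠ y := ⟨_, inducedIrrAbove_conj H ⁅H, H⁆ hy, hreal y hyS⟩
  have hw1 : w = 1 := by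
    have hn4 : (4 : ℤ) ≤ (n : ℤ) ^ 2 := by
      have : (2 : ℤ) ≤ n := by exact_mod_cast hn2
      nlinarith
    have hc0 : 0 ≤ ∑ φ ∈ X, c φ ^ 2 := Finset.sum_nonneg fun φ _ => sq_nonneg _
    have hlo : w ≠ 0 := by
      intro h0
      rw [hw] at h0
      have hk0 := (Finset.sum_eq_zero_iff_of_nonneg fun ψ _ => sq_nonneg (k ψ)).mp h0
      have : W = 0 := Finset.sum_eq_zero fun ψ hψ => by
        rw [sq_eq_zero_iff.mp (hk0 ψ hψ), Int.cast_zero, zero_smul]
      have h := hWY y' hy' hne'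
      rw [this] at h
      simp [CfsgLib.Char.classInner_zero_left] at h
    have hge : 0 ≤ w := hw ▸ Finset.sum_nonneg fun ψ _ => sq_nonneg _
    by_contra hne1
    have : 2 ≤ w := by omega
    nlinarith
  have hsum1 : ∑ φ ∈ X, c φ ^ 2 = 1 := by rw [hw1] at hnorm; linarith
  have hrel : ∀ φ ∈ X, φ ≠ x → (d x : ℤ) * c φ = (d φ : ℤ) * (c x - 1) := by
    intro φ hφ hne'
    have hm := hdegX φ hφ
    have h := hτ.2.2.1 _ hcross _ (zspanOn_mono hsubX hm)
    have hyφ : y ≠ φ := fun e => Set.disjoint_left.mp hdisj ((hmX φ).mp hφ) (e ▸ hy)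
    rw [← hσα _ hm, iso_zspan_sub hσ (Submodule.smul_mem _ _ (hσin φ hφ))
      (Submodule.smul_mem _ _ (hσin x hxX)), hσ.2.1 _ (hσin φ hφ), hσ.2.1 _ (hσin x hxX), ← hΦ] at h
    simp only [CfsgLib.Char.classInner_sub_left, CfsgLib.Char.classInner_sub_right,
      classInner_zsmul_left, classInner_zsmul_right, hc φ hφ, hc x hxX, hself x hxS,
      horth x hxS φ (hsubX ((hmX φ).mp hφ)) hne'.symm, horth y hyS x hxS hxy.symm,
      horth y hyS φ (hYS hy |> fun _ => hsubX ((hmX φ).mp hφ)) hyφ, mul_zero, sub_zero, mul_one,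
      zero_sub] at h
    have h' : ((d x : ℤ) : ℂ) * c φ = ((d φ : ℤ) : ℂ) * ((c x : ℂ) - 1) := by linear_combination h
    exact_mod_cast h'
  -- normalise the isometry on `W₀`
  obtain ⟨σ₂, hσ₂, hσ₂α, hΦ₂⟩ : ∃ σ₂, Cfsg.IsLinearIsometryOn (Cfsg.zspan W₀) σ₂ ∧
      (∀ α ∈ Cfsg.zspanOn W₀ ({1}ᶜ : Set L), σ₂ α = τ α) ∧ Φ = σ₂ x + (n : ℂ) • W := by
    have hsplit := Finset.add_sum_erase X (fun φ => c φ ^ 2) hxX
    rw [hsum1] at hsplit
    by_cases hcx : c x = 1
    · refine ⟨σ, hσ, hσα, ?_⟩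
      rw [hexp, Finset.sum_eq_single x (fun φ hφ hne' => ?_) (fun h => absurd hxX h), hcx,
        Int.cast_one, one_smul]
      have h := hrel φ hφ hne'
      rw [hcx, sub_self, mul_zero, mul_eq_zero] at h
      rw [h.resolve_left (by have := hd0 x hxS; omega), Int.cast_zero, zero_smul]
    · have hge : ∀ φ ∈ X.erase x, 1 ≤ c φ ^ 2 := fun φ hφ => by
        obtain ⟨hne', hφ⟩ := Finset.mem_erase.mp hφ
        have h := hrel φ hφ hne'
        have : c φ ≠ 0 := fun h0 => by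
          rw [h0, mul_zero, eq_comm, mul_eq_zero] at h
          rcases h with h | h
          · have := hd0 φ (hsubX ((hmX φ).mp hφ)); omega
          · omega
        have := mul_self_pos.mpr this
        rw [sq]; omega
      have hcard := Finset.card_nsmul_le_sum _ _ _ hge
      rw [nsmul_one] at hcard
      have hmem : Cfsg.conjFun x ∈ X.erase x :=
        Finset.mem_erase.mpr ⟨hreal x hxS, (hmX _).mpr hxc⟩
      have hpos : 1 ≤ (X.erase x).card := Finset.card_pos.mpr ⟨_, hmem⟩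
      have hpos' : (1 : ℤ) ≤ (X.erase x).card := by exact_mod_cast hpos
      have hcx0 : c x = 0 := by
        have h1 : c x ^ 2 ≤ 0 := by linarith
        exact sq_eq_zero_iff.mp (le_antisymm h1 (sq_nonneg _))
      set x' := Cfsg.conjFun x
      have hone : X.erase x = {x'} := Finset.eq_singleton_iff_unique_mem.mpr ⟨hmem, fun φ hφ => by
        have h1 : (X.erase x).card ≤ 1 := by
          rw [hcx0] at hsplit
          have : ((X.erase x).card : ℤ) ≤ 1 := by nlinarith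
          exact_mod_cast this
        exact Finset.card_le_one.mp h1 φ hφ x' hmem⟩
      have hx'1 : x' 1 = x 1 := by
        show conj (x 1) = x 1
        rw [hd x hxS, map_natCast]
      have hW₀' : W₀ = {x, x'} := by
        rw [← hX, ← Finset.insert_erase hxX, hone]; simp
      have hcx' : c x' = -1 := by
        have h := hrel x' ((hmX _).mpr hxc) (hreal x hxS)
        rw [hcx0, show d x' = d x by
          have := hd x' hxc.1; rw [hx'1, hd x hxS] at this; exact_mod_cast this.symm] at h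
        have hdx : (d x : ℤ) ≠ 0 := by have := hd0 x hxS; omega
        exact mul_left_cancel₀ hdx (h.trans (by ring))
      rw [← hW₀, hW₀'] at hσ hσα
      rw [hW₀']
      obtain ⟨σ₂, h1, h2, h3, -⟩ := flip_isometry (hirrS x hxS) (hirrS x' hxc.1)
        (hreal x hxS).symm hx'1.symm hσ
      refine ⟨σ₂, h1, fun α hα => (h2 α hα).trans (hσα α hα), ?_⟩
      rw [hexp, ← Finset.add_sum_erase X _ hxX, hone, Finset.sum_singleton, hcx0, hcx', h3]
      simp
  -- normalise the isometry on `Y`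
  obtain ⟨t₂, ht₂, ht₂α, hWt⟩ : ∃ t₂, Cfsg.IsLinearIsometryOn (Cfsg.zspan Y) t₂ ∧
      (∀ α ∈ Cfsg.zspanOn Y ({1}ᶜ : Set L), t₂ α = τ α) ∧ W = -t₂ y := by
    have hW1 : Cfsg.classInner W W = 1 := by rw [hWW, hw1, Int.cast_one]
    have ht1 : ∀ f ∈ Y, Cfsg.classInner (t f) (t f) = 1 := fun f hf => by
      rw [ht.2.2.1 _ (hin hf) _ (hin hf), hself f (hYS hf)]
    have hcases := fun f (hf : f ∈ Y) =>
      norm_one_cases hWgen (ht.2.2.2 _ (hin hf)) hW1 (ht1 f hf)
    have hneg : ∀ f ∈ Y, Cfsg.classInner (-t f) (t f) = -1 := fun f hf => by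
      rw [show -t f = (-1 : ℂ) • t f by simp, CfsgLib.Char.classInner_smul_left, ht1 f hf, mul_one]
    rcases hcases y hy with e | e | e
    · exfalso
      have h := hWY y' hy' hne'
      rw [e, ht1 y hy, ← e] at h
      rcases hcases y' hy' with e' | e' | e'
      · rw [e', ht1 y' hy'] at h; norm_num at h
      · rw [e', hneg y' hy'] at h; norm_num at h
      · rw [e'] at h; norm_num at h
    · exact ⟨t, ht, htα, e⟩
    · have hall : ∀ f ∈ Y, f ≠ y → W = t f := fun f hf hfy => by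
        have h := hWY f hf hfy
        rw [e, sub_zero] at h
        rcases hcases f hf with e' | e' | e'
        · exact e'
        · rw [e', hneg f hf] at h; norm_num at h
        · rw [e'] at h; norm_num at h
      have hYp : Y = {y, y'} := Set.Subset.antisymm (fun f hf => by
          by_cases hfy : f = y
          · exact Or.inl hfy
          refine Or.inr ?_
          by_contra hfy'
          have h := ht.2.2.1 _ (hin hf) _ (hin hy')
          rw [← hall f hf hfy, ← hall y' hy' hne', hW1, horth f (hYS hf) y' (hYS hy') hfy'] at h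
          exact one_ne_zero h)
        (Set.insert_subset hy (Set.singleton_subset_iff.mpr hy'))
      rw [hYp] at ht htα ⊢
      obtain ⟨t₂, h1, h2, h3, -⟩ := flip_isometry (hirrS y hyS) (hirrS y' (hYS hy')) hne'.symm
        (hy1.trans (degree_of_above_derived hy').symm) ht
      exact ⟨t₂, h1, fun α hα => (h2 α hα).trans (htα α hα), by
        rw [h3, neg_neg]; exact hall y' hy' hne'⟩
  -- the union is coherent
  have hunion := (Cfsg.Agent.S1531.result L (Cfsg.inducedIrrAbove H ⊥) W₀ Y hirrS hsubX hYS hdisj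
    hX2 hY2 τ hτ hτ1 σ₂ t₂ hσ₂ hσ₂α ht₂ ht₂α).2 ⟨x, hxW, y, hy, by
      have e : x 1 • y - y 1 • x = (-(H.index : ℂ)) • (x - (n : ℤ) • y) := by
        rw [hn, hy1]; funext g; simp; ring
      rw [e, show τ ((-(H.index : ℂ)) • (x - (n : ℤ) • y)) = (-(H.index : ℂ)) • Φ from
        CfsgLib.Char.indFun_smul L _ _, hΦ₂, hWt, hn, hy1]
      funext g; simp; ring⟩
  -- and the rest is added by degree
  obtain ⟨Yf, hYf⟩ := (inducedIrrAbove_finite H ⁅H, H⁆).exists_finset_coe
  obtain ⟨T, hT⟩ := (inducedIrrAbove_finite H (⊥ : Subgroup L)).exists_finset_coe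
  have hU₀ : (↑(X ∪ Yf) : Set (L → ℂ)) = W₀ ∪ Y := by rw [Finset.coe_union, hX, hYf]
  obtain ⟨U, hU, hUc⟩ := coherent_extend (Cfsg.inducedIrrAbove H (⊥ : Subgroup L)) hirrS d hd τ hτ hτ1
    (X ∪ Yf) (by rw [hU₀]; exact Set.union_subset hsubX hYS) (by rw [hU₀]; exact hunion) T hT.le
    (fun χ hχ hnot => by
      have hχS : χ ∈ Cfsg.inducedIrrAbove H ⊥ := hT ▸ hχ
      have hχX : χ ∉ W₀ := fun h => hnot (Finset.mem_union_left _ ((hmX χ).mpr h))
      obtain ⟨θ, hθ, -, hA, rfl⟩ : χ ∈ Cfsg.inducedIrrAbove H Z :=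
        by_contra fun h => hχX ⟨hχS, h⟩
      obtain ⟨j, -, hj⟩ := CfsgLib.Char.irr_apply_one_pos hθ
      have hb := degree_bound H Z H Z le_rfl hZH le_rfl (fun a ha b hb => by
        rw [hZc a ha b hb, mul_inv_cancel_right, mul_inv_cancel]; exact Z.one_mem) hθ hA hj
      rw [Subgroup.relIndex_self, one_pow, one_mul] at hb
      have hdy : d y = H.index := by
        have := hd y hyS; rw [hy1] at this; exact_mod_cast this.symm
      have hdχ : d (Cfsg.indFun H θ) = H.index * j := by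
        have h := hd _ hχS
        rw [degree_eq H hj] at h
        exact_mod_cast h.symm
      have hrel2 : 2 ≤ Z.relIndex H := by
        have h0 : Z.relIndex H ≠ 0 := Subgroup.index_ne_zero_of_finite
        have h1 : Z.relIndex H ≠ 1 := fun h =>
          (lt_of_le_of_lt hZd hderlt).not_ge (Subgroup.relIndex_eq_one.mp h)
        omega
      refine ⟨y, Finset.mem_union_right _ (by rw [← Finset.mem_coe, hYf]; exact hy),
        by rw [hdy, hdχ]; exact dvd_mul_right _ _,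
        lt_of_lt_of_le ?_ (Finset.sum_le_sum_of_subset Finset.subset_union_left)⟩
      rw [hsumX, hdy, hdχ, show 2 * H.index * (H.index * j) = H.index * (2 * H.index * j) by ring]
      refine Nat.mul_lt_mul_of_pos_left ?_ he0
      have hjm : j < Z.relIndex H := by nlinarith
      rw [mul_comm (Z.relIndex H)]
      calc 2 * H.index * j ≤ (Nat.card Z - 1) * j := Nat.mul_le_mul_right _ (by omega)
        _ < _ := Nat.mul_lt_mul_of_pos_left hjm (by omega))
  rwa [hU, hU₀, hT, Set.union_eq_right.mpr (Set.union_subset hsubX hYS)] at hUc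

end CfsgLib.Coherent
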