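import Cfsg.Agent.S1516
import Cfsg.Agent.Lib.Coherent.Grow
import Cfsg.Agent.Lib.Coherent.InducedSet
import Cfsg.Agent.Lib.Clifford.CoherenceSystem

/-!
# Coherence systems of induced characters: the extension step
-/

set_option autoImplicit false
set_option linter.unusedSectionVars false

namespace CfsgLib.Coherent

open CfsgLib.Clifford.Coh

universe u v

variable {L : Type u} [Group L] [Fintype L] {G : Type v} [Group G] [Fintype G]

/-- Restriction of a coherence system to a conjugation-closed subset. -/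
theorem system_restrict {S T : Set (L → ℂ)} {τ : (L → ℂ) → (G → ℂ)}
    {R : (L → ℂ) → Finset (G → ℂ)} (hS : Cfsg.IsCoherenceSystem S τ R) (hTS : T ⊆ S)
    (hne : T.Nonempty) (hc : ∀ χ ∈ T, Cfsg.conjFun χ ∈ T) : Cfsg.IsCoherenceSystem T τ R where
  nonempty := hne
  isCharacter χ h := hS.isCharacter χ (hTS h)
  conj_mem := hc
  conj_ne χ h := hS.conj_ne χ (hTS h)
  isometry := isometry_mono (zspanOn_mono hTS) hS.isometry
  map_one α h := hS.map_one α (zspanOn_mono hTS h)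
  orthogonal χ h φ h' := hS.orthogonal χ (hTS h) φ (hTS h')
  orthonormal χ h := hS.orthonormal χ (hTS h)
  virtual χ h := hS.virtual χ (hTS h)
  sum_eq χ h := hS.sum_eq χ (hTS h)
  disjoint χ h φ h' := hS.disjoint χ (hTS h) φ (hTS h')

/-- The extension criterion, iterated. -/
theorem system_extend {S : Set (L → ℂ)} {τ : (L → ℂ) → (G → ℂ)} {R : (L → ℂ) → Finset (G → ℂ)}
    (hS : Cfsg.IsCoherenceSystem S τ R) (d n : (L → ℂ) → ℕ) (hd : ∀ φ ∈ S, φ 1 = (d φ : ℂ))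
    (hn : ∀ φ ∈ S, Cfsg.classInner φ φ = (n φ : ℂ)) (S₀ : Finset (L → ℂ)) (hS₀ : ↑S₀ ⊆ S)
    (hS₀c : ∀ φ ∈ S₀, Cfsg.conjFun φ ∈ S₀) (hcoh : Cfsg.IsCoherent (↑S₀ : Set (L → ℂ)) {1}ᶜ τ)
    (T : Finset (L → ℂ)) (hT : ↑T ⊆ S)
    (h : ∀ χ ∈ T, χ ∉ S₀ → ∃ ψ ∈ S₀, d ψ ∣ d χ ∧
      (2 * d χ * d ψ : ℝ) < ∑ φ ∈ S₀, ((d φ : ℝ) ^ 2 / (n φ : ℝ))) :
    ∃ U : Finset (L → ℂ), S₀ ⊆ U ∧ T ⊆ U ∧ ↑U ⊆ S ∧ (∀ φ ∈ U, Cfsg.conjFun φ ∈ U) ∧
      Cfsg.IsCoherent (↑U : Set (L → ℂ)) {1}ᶜ τ := by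
  classical
  induction T using Finset.induction_on with
  | empty => exact ⟨S₀, subset_rfl, Finset.empty_subset _, hS₀, hS₀c, hcoh⟩
  | @insert χ T hχT ih =>
    have hTS : ↑T ⊆ S := fun x hx => hT (by simp [Finset.mem_coe.mp hx])
    obtain ⟨U, hU₀, hUT, hUS, hUc, hUcoh⟩ := ih hTS fun x hx => h x (Finset.mem_insert_of_mem hx)
    have hχS : χ ∈ S := hT (by simp)
    by_cases hχU : χ ∈ U
    · exact ⟨U, hU₀, Finset.insert_subset hχU hUT, hUS, hUc, hUcoh⟩
    have hχcU : Cfsg.conjFun χ ∉ U := fun hx => hχU (by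
      simpa [conjFun_conjFun] using hUc _ hx)
    obtain ⟨ψ, hψ, hdvd, hlt⟩ := h χ (Finset.mem_insert_self χ T) fun hx => hχU (hU₀ hx)
    have hres := Cfsg.Agent.S1516.result S τ R hS d n hd hn U hUS hUc hUcoh χ hχS hχU hχcU ψ
      (hU₀ hψ) hdvd (hlt.trans_le (Finset.sum_le_sum_of_subset_of_nonneg hU₀
        fun φ _ _ => by positivity))
    refine ⟨insert χ (insert (Cfsg.conjFun χ) U), fun x hx => by simp [hU₀ hx],
      Finset.insert_subset (by simp) fun x hx => by simp [hUT hx], ?_, ?_, ?_⟩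
    · intro x hx
      simp only [Finset.coe_insert, Set.mem_insert_iff] at hx
      rcases hx with rfl | rfl | hx
      exacts [hχS, hS.conj_mem χ hχS, hUS hx]
    · intro x hx
      simp only [Finset.mem_insert] at hx ⊢
      rcases hx with rfl | rfl | hx
      exacts [Or.inr (Or.inl rfl), Or.inl (conjFun_conjFun χ), Or.inr (Or.inr (hUc x hx))]
    · have e : (↑(insert χ (insert (Cfsg.conjFun χ) U)) : Set (L → ℂ)) =
          ↑U ∪ {χ, Cfsg.conjFun χ} := by
        ext x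
        simp only [Finset.coe_insert, Set.mem_insert_iff, Set.mem_union, Set.mem_singleton_iff]
        tauto
      rw [e]; exact hres

/-- The degree bound through a central section `D/B` of `C`. -/
theorem degree_bound (K : Subgroup L) [Fintype K] (B C D : Subgroup L) (hBD : B ≤ D) (hDC : D ≤ C)
    (hCK : C ≤ K) (hcent : ∀ x ∈ D, ∀ y ∈ C, x * y * x⁻¹ * y⁻¹ ∈ B) {θ : K → ℂ}
    (hθ : Cfsg.IsIrrCharacter K θ) (hB : ∀ b : K, (b : L) ∈ B → θ b = θ 1) {n : ℕ} (hn : θ 1 = n) :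
    n ^ 2 ≤ C.relIndex K ^ 2 * D.relIndex C := by
  classical
  have := Fintype.ofFinite (C.subgroupOf K)
  obtain ⟨φ, hφ, m, hm, hle, hne⟩ := exists_constituent_degree_le (C.subgroupOf K) hθ hn
  let D' : Subgroup (C.subgroupOf K) := (D.subgroupOf K).subgroupOf (C.subgroupOf K)
  have hsq := degree_sq_mul_le D' hφ hm fun x hx y => by
    refine CfsgLib.Clifford.constituent_eq_one
      (CfsgLib.Char.isCharacter_restrict (CfsgLib.Char.irr_isCharacter hθ) _) hφ hne ?_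
    show θ ((x * y * x⁻¹ * y⁻¹ : C.subgroupOf K) : K) = θ ((1 : C.subgroupOf K) : K)
    rw [Subgroup.coe_one]
    refine hB _ ?_
    simpa using hcent ((x : K) : L) (Subgroup.mem_subgroupOf.mp (Subgroup.mem_subgroupOf.mp hx))
      ((y : K) : L) (Subgroup.mem_subgroupOf.mp y.2)
  have e1 : Nat.card (C.subgroupOf K) = Nat.card C :=
    Nat.card_congr (Subgroup.subgroupOfEquivOfLe hCK).toEquiv
  have e2 : Nat.card D' = Nat.card D :=
    (Nat.card_congr (Subgroup.subgroupOfEquivOfLe (Subgroup.comap_mono hDC)).toEquiv).trans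
      (Nat.card_congr (Subgroup.subgroupOfEquivOfLe (hDC.trans hCK)).toEquiv)
  rw [e1, e2] at hsq
  have e3 : D.relIndex C * Nat.card D = Nat.card C := by
    rw [← Nat.card_congr (Subgroup.subgroupOfEquivOfLe hDC).toEquiv]
    exact Subgroup.index_mul_card (D.subgroupOf C)
  rw [← e3] at hsq
  have hm2 : m ^ 2 ≤ D.relIndex C := Nat.le_of_mul_le_mul_right hsq Nat.card_pos
  calc n ^ 2 ≤ ((C.subgroupOf K).index * m) ^ 2 := Nat.pow_le_pow_left hle 2
    _ = C.relIndex K ^ 2 * m ^ 2 := by rw [mul_pow]; rfl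
    _ ≤ _ := Nat.mul_le_mul_left _ hm2

end CfsgLib.Coherent
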