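import Cfsg.Prelude.Def_OddOrderLocal
import Cfsg.Agent.Lib.Coherent.SylowTI
import Cfsg.Agent.Lib.Coherent.DadeCompare
import Cfsg.Agent.Lib.Coherent.KernelExponent

/-!
# Coherence for a maximal Frobenius subgroup of Type I, given its Dade hypothesis
-/

set_option autoImplicit false
set_option linter.unusedSectionVars false

namespace CfsgLib.Coherent

open scoped commutatorElement

universe v

variable {G : Type v} [Group G] [Fintype G]

/-- For `L` of Type I with Frobenius kernel `L_F`, the characters induced from the kernel are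
irreducible and coherent for the Dade map on `A(L)`. -/
theorem type_one_coherent (hG : Cfsg.IsMinSimpleOddOrder G) (L : Subgroup G) [Fintype L]
    (hL : IsCoatom L) (hI : Cfsg.IsOfTypeI L)
    (hfrob : ∀ x ∈ Cfsg.fittingHallOf L, x ≠ 1 →
      L ⊓ Subgroup.centralizer ({x} : Set G) ≤ Cfsg.fittingHallOf L)
    (hD : Cfsg.DadeHypothesis (Cfsg.typeA L) L (Cfsg.supportR L)) :
    (∀ χ ∈ Cfsg.inducedIrrAbove (Cfsg.fittingHall L) ⊥, Cfsg.IsIrrCharacter L χ) ∧
      Cfsg.IsCoherent (Cfsg.inducedIrrAbove (Cfsg.fittingHall L) ⊥) {1}ᶜ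
        (Cfsg.dadeIsometry (Cfsg.typeA L) L (Cfsg.supportR L)) := by
  classical
  have := Fintype.ofFinite (Cfsg.fittingHall L)
  set H₀ := Cfsg.fittingHallOf L with hH₀
  have hsub : H₀.subgroupOf L = Cfsg.fittingHall L :=
    Subgroup.comap_map_eq_self_of_injective L.subtype_injective _
  have hH₀L : H₀ ≤ L := Subgroup.map_subtype_le _
  have hI' := hI
  obtain ⟨⟨-, hoddL, hH1, hH2, -⟩, hcases⟩ := hI'
  set H := Cfsg.fittingHall L with hH
  have hmem : ∀ x : L, x ∈ H ↔ (x : G) ∈ H₀ := fun x => by rw [← hsub]; rfl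
  have hC : ∀ h ∈ H, h ≠ 1 → Subgroup.centralizer ({h} : Set L) ≤ H := fun h hh h1 x hx =>
    (hmem x).mpr (hfrob h ((hmem h).mp hh) (fun e => h1 (Subtype.ext e))
      ⟨x.2, Subgroup.mem_centralizer_singleton_iff.mpr
        (congrArg Subtype.val (Subgroup.mem_centralizer_singleton_iff.mp hx))⟩)
  have hnil := frobenius_kernel_nilpotent hC hH2
  have hA : ∀ x : L, (x : G) ∈ Cfsg.typeA L ↔ x ∈ H ∧ x ≠ 1 := by
    intro x
    simp only [Cfsg.typeA, if_pos hI, Set.mem_ofPred_eq]
    constructor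
    · rintro ⟨-, hx1, y, hy, hy1, hc⟩
      exact ⟨(hmem x).mpr (hfrob y hy hy1 ⟨x.2, Subgroup.mem_centralizer_singleton_iff.mpr hc⟩),
        fun e => hx1 (by rw [e]; rfl)⟩
    · exact fun h => ⟨x.2, fun e => h.2 (Subtype.ext e), x, (hmem x).mp h.1,
        fun e => h.2 (Subtype.ext e), rfl⟩
  refine ⟨fun χ h => frobenius_irr hC h, ?_⟩
  obtain ⟨hτ, hτ1⟩ := dade_isometry_induced H hA hD
  have hoH : Odd (Nat.card H) := hoddL.of_dvd_nat (Subgroup.card_subgroup_dvd_card H)
  have hoe : Odd H.index := hoddL.of_dvd_nat H.index_dvd_card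
  have hne : Nat.card H ≠ H.index + 1 := fun e => by
    rw [e] at hoH
    exact Nat.not_even_iff_odd.mpr hoH hoe.add_one
  by_cases hbig : ∀ p m : ℕ, p.Prime → Nat.card H = p ^ m → ⁅H, H⁆ ≠ ⊥ →
      4 * H.index ^ 2 + 1 < ⁅H, H⁆.relIndex H
  · exact feit_coherence hC hH1 hH2 hne _ hτ hτ1 hbig
  push Not at hbig
  obtain ⟨p, m, hp, hm, hna, hsmall⟩ := hbig
  rcases hcases with hTI | ⟨hab, -⟩ | ⟨hexp, -⟩
  · -- the kernel is TI: the Dade map is induction
    have hN : Subgroup.normalizer (H₀ : Set G) = L := by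
      have hle : L ≤ Subgroup.normalizer (H₀ : Set G) := by
        intro l hl
        rw [Subgroup.mem_normalizer_iff]
        intro y
        constructor <;> intro hy
        · exact (hmem ⟨_, L.mul_mem (L.mul_mem hl (hH₀L hy)) (L.inv_mem hl)⟩).mp
            (Subgroup.Normal.conj_mem inferInstance (⟨y, hH₀L hy⟩ : L) ((hmem _).mpr hy) ⟨l, hl⟩)
        · have hyL : y ∈ L := by
            have := L.mul_mem (L.mul_mem (L.inv_mem hl) (hH₀L hy)) hl
            simpa [mul_assoc] using this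
          have h2 := Subgroup.Normal.conj_mem (inferInstance : H.Normal) ⟨_, hH₀L hy⟩ ((hmem _).mpr hy)
            (⟨l, hl⟩⁻¹ : L)
          have h3 := (hmem _).mp h2
          simpa [mul_assoc] using h3
      refine (hle.lt_or_eq.resolve_left fun hlt => ?_).symm
      have htop := hL.2 _ hlt
      have hn : H₀.Normal := Subgroup.normalizer_eq_top_iff.mp htop
      have := hG.2.1
      rcases hn.eq_bot_or_eq_top with h | h
      · exact hH1 (by rw [← hsub, h, Subgroup.bot_subgroupOf])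
      · exact hL.1 (eq_top_iff.mpr (h ▸ hH₀L))
    have hCG : ∀ a ∈ H₀, a ≠ 1 → Subgroup.centralizer ({a} : Set G) ≤ L := by
      intro a ha ha1 g hg
      by_contra hgL
      exact ha1 (hTI g (by rw [hN]; exact hgL) a ha (by
        rw [Subgroup.mem_centralizer_singleton_iff.mp hg, mul_inv_cancel_right]; exact ha))
    have hAmem : ∀ a ∈ Cfsg.typeA L, a ∈ H₀ ∧ a ≠ 1 := fun a ha => by
      have h := (hA ⟨a, hD.subset ha⟩).mp ha
      exact ⟨(hmem _).mp h.1, fun e => h.2 (Subtype.ext e)⟩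
    have hR : ∀ a ∈ Cfsg.typeA L, Cfsg.supportR L a = ⊥ := fun a ha => by
      simp only [Cfsg.supportR]
      rw [dif_neg]
      exact fun h => h.1 (hCG a (hAmem a ha).1 (hAmem a ha).2)
    have hTI' : ∀ g : G, ∀ v ∈ Cfsg.typeA L, g * v * g⁻¹ ∈ Cfsg.typeA L → g ∈ L := by
      intro g v hv hgv
      by_contra hg
      exact (hAmem v hv).2 (hTI g (by rw [hN]; exact hg) v (hAmem v hv).1 (hAmem _ hgv).1)
    have : (H₀.subgroupOf L).Normal := hsub ▸ inferInstance
    have := Fintype.ofFinite (H₀.subgroupOf L)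
    have hc := coherent_ti_kernel H₀ L hN hTI (hsub ▸ hH1) (hsub ▸ hH2)
      (hsub ▸ hC) (by rw [hsub]; exact hne) (fun j hj _ => by
        exfalso
        rw [hsub] at hj
        have hj0 : j ≠ 0 := fun h => hH1 (Subgroup.card_eq_one.mp (by rw [hj, h, pow_zero]))
        rw [hj] at hoH
        exact Nat.not_even_iff_odd.mpr hoH (Nat.even_pow.mpr ⟨even_two, hj0⟩))
    simp only [hsub] at hc
    exact coherent_congr (fun α hα => (dade_eq_indFun hTI' hR (zspan_induced H hα.1).1
      fun x hx => by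
        by_cases h1 : x = 1
        · subst h1; exact hα.2 1 (by simp)
        · exact (zspan_induced H hα.1).2.2 x fun h => hx ((hA x).mpr ⟨h, h1⟩)).symm) hc
  · exfalso
    exact hna (Subgroup.commutator_self_eq_bot_iff.mpr ⟨⟨fun a b => Subtype.ext (Subtype.ext
      (show ((a : L) : G) * ((b : L) : G) = ((b : L) : G) * ((a : L) : G) from
        congrArg Subtype.val (hab.is_comm.comm
        (⟨((a : L) : G), (hmem _).mp a.2⟩ : H₀) ⟨((b : L) : G), (hmem _).mp b.2⟩)))⟩⟩)
  · exfalso
    have hpd : p ∣ Nat.card H₀ := by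
      have hm0 : m ≠ 0 := fun h => hH1 (Subgroup.card_eq_one.mp (by rw [hm, h, pow_zero]))
      rw [← Nat.card_congr (Subgroup.subgroupOfEquivOfLe hH₀L).toEquiv, hsub, hm]
      exact dvd_pow_self p hm0
    have he := (index_dvd_exponent hC hH1 hH2 hoddL).trans (hexp p hp hpd)
    have hpodd : Odd p := hoH.of_dvd_nat (hm ▸ dvd_pow_self p
      (fun h => hH1 (Subgroup.card_eq_one.mp (by rw [hm, h, pow_zero]))))
    have hp2 := two_mul_index_le hoe hpodd hp.ne_one he
    have : Fact p.Prime := ⟨hp⟩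
    obtain ⟨a, -, ha⟩ := (Nat.dvd_prime_pow hp).mp
      (hm ▸ (⁅H, H⁆.subgroupOf H).index_dvd_card : ⁅H, H⁆.relIndex H ∣ p ^ m)
    have hlt := derived_lt hnil hH1
    have ha2 : 2 ≤ a := by
      by_contra hle
      have ha0 : a ≠ 0 := fun h => hlt.not_ge (Subgroup.relIndex_eq_one.mp (by rw [ha, h, pow_zero]))
      have ha1 : a = 1 := by omega
      rw [ha1, pow_one, Subgroup.relIndex, commutator_subgroupOf] at ha
      have hcyc : IsCyclic (H ⧸ commutator H) := isCyclic_of_prime_card (p := p) ha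
      obtain ⟨q, hq⟩ := IsCyclic.exists_generator (α := H ⧸ commutator H)
      obtain ⟨g, rfl⟩ := QuotientGroup.mk'_surjective (commutator H) q
      have hgen : Subgroup.zpowers g ⊔ commutator H = ⊤ := by
        rw [eq_top_iff]
        intro x _
        obtain ⟨i, hi⟩ := Subgroup.mem_zpowers_iff.mp (hq (QuotientGroup.mk' (commutator H) x))
        have h1 : (g ^ i)⁻¹ * x ∈ commutator H := QuotientGroup.eq.mp
          ((map_zpow (QuotientGroup.mk' (commutator H)) g i).trans hi)
        have h2 := Subgroup.mul_mem _ (Subgroup.mem_sup_left (Subgroup.zpow_mem_zpowers g i))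
          (Subgroup.mem_sup_right h1 : (g ^ i)⁻¹ * x ∈ Subgroup.zpowers g ⊔ commutator H)
        simpa using h2
      exact hna (Subgroup.commutator_self_eq_bot_iff.mpr
        ⟨⟨comm_of_cyclic_abelianization hnil g hgen⟩⟩)
    rw [ha] at hsmall
    have h1 : p ^ 2 ≤ p ^ a := Nat.pow_le_pow_right hp.pos ha2
    have h2 := Nat.pow_le_pow_left hp2 2
    have he0 : 0 < H.index := Nat.pos_of_ne_zero Subgroup.index_ne_zero_of_finite
    nlinarith

end CfsgLib.Coherent
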